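import Cfsg.Agent.H442.OutCyc
import Cfsg.Agent.Lib.NilpotentCoprime
import Cfsg.Agent.H388.EvenFixSylow
import Cfsg.Agent.H996.AllSplit_m3
import Cfsg.Agent.FixBN.ReeSplit
import Cfsg.Agent.Nodes.RGDLie
import Cfsg.Agent.H160.NC.Blocks_mg
import Cfsg.Agent.H182.CentU
import Cfsg.Agent.S0280
import Cfsg.Agent.S2603
import Cfsg.Agent.H182.CentAll
import Cfsg.Agent.H521.OddFixSymp
import Cfsg.Agent.LieRecognition.FieldSemilinear
import Cfsg.Agent.S2600
import Cfsg.Agent.S2604
import Cfsg.Agent.S2605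
import Cfsg.Agent.S2606
import Cfsg.Agent.S2607
import Cfsg.Agent.S2608
import Cfsg.Agent.S0293
import Cfsg.Agent.H523.FpfChev
import Cfsg.Agent.H523.FpfCycFam
import Cfsg.Agent.H73.OI.InnerChev
import Cfsg.Agent.H72.Task106
import Cfsg.Agent.S1082
import Cfsg.Agent.H493.NCRow.OutTwE6
import Cfsg.Agent.H378.TwRows
import Cfsg.Agent.H129.CycRow
import Cfsg.Agent.FastGrp
import Cfsg.Agent.Prune
set_option linter.all false
prune_inst 0x7f00000000000000000000000000000000000000000000000000000000000000000000000000000000000000000000000000000000000000000000000000000000000000000000000000000000000000003fffffffffffffffffffffffffffbeffbdffffffff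
open scoped Cfsg.Agent.FastGrp

-- part: H160/NC/Final
section
/-!
# Noncyclic outer part: the reduction to almost simple groups (helper160, for S4185)
-/

set_option autoImplicit false
set_option linter.unusedSectionVars false

namespace Cfsg.Agent.H160.NC

open Subgroup
open Cfsg (Out Inn)
open Cfsg.Agent.H94.PG (Adj adj_of_dvd)
open Cfsg.Agent.H425.KStep (surj)

variable {G : Type*} [Group G] [Finite G] (K : Subgroup G) [hKn : K.Normal]

theorem adj_lift {r s : ℕ} (h : Adj (G ⧸ K) r s) : Adj G r s := by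
  obtain ⟨g, hg⟩ := exists_of_adj h
  obtain ⟨x, rfl⟩ := QuotientGroup.mk_surjective g
  refine adj_of_orderOf h.1 h.2.1 h.2.2.1 (g := x) ?_
  rw [← hg]
  exact orderOf_map_dvd (QuotientGroup.mk' K) x

/-- a four-group above a nilpotent normal subgroup -/
theorem adj_two_kernel (hK : Group.IsNilpotent K) {s : ℕ} (hs : s.Prime) (hs2 : s ≠ 2) (hsK : s ∣ Nat.card K)
    (V : Subgroup (G ⧸ K)) (hV : IsKleinFour V) : Adj G 2 s := by
  have f2 : Fact (Nat.Prime 2) := ⟨Nat.prime_two⟩
  have fs : Fact s.Prime := ⟨hs⟩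
  by_cases h2 : 2 ∣ Nat.card K
  · obtain ⟨x, hx⟩ := exists_prime_orderOf_dvd_card' 2 h2
    obtain ⟨y, hy⟩ := exists_prime_orderOf_dvd_card' s hsK
    have h1 : Commute x y := Cfsg.Agent.Lib.NilpotentCoprime.commute_of_coprime_orderOf
      (by rw [hx, hy]; exact (Nat.coprime_primes Nat.prime_two hs).2 (Ne.symm hs2))
    exact adj_of_dvd Nat.prime_two hs (Ne.symm hs2) (h1.map K.subtype) (x := K.subtype x) (y := K.subtype y)
      (by rw [Subgroup.coe_subtype, Subgroup.orderOf_coe, hx])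
      (by rw [Subgroup.coe_subtype, Subgroup.orderOf_coe, hy]) (orderOf_pos _).ne' (orderOf_pos _).ne'
  · obtain ⟨P⟩ : Nonempty (Sylow s K) := inferInstance
    have hfs := toQuo_surj K P
    set! Y : Subgroup (N K P) := V.comap (toQuo K P) with hY
    let f' : Y →* V := (toQuo K P).subgroupComap V
    have hf's : Function.Surjective f' := by
      rintro ⟨e, he⟩
      obtain ⟨n, rfl⟩ := hfs e
      exact ⟨⟨n, he⟩, rfl⟩
    have hV2 : IsPGroup 2 V := IsPGroup.of_card (n := 2) (by rw [hV.card_four]; norm_num)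
    obtain ⟨Q⟩ : Nonempty (Sylow 2 Y) := inferInstance
    have hQt : (Q : Subgroup Y).map f' = ⊤ := by
      have h3 : ((Q.mapSurjective hf's : Sylow 2 V) : Subgroup V) = ⊤ :=
        ((Q.mapSurjective hf's).is_maximal' (hV2.to_subgroup ⊤) le_top).symm
      exact h3
    let g : Q →* V := f'.comp ((Q : Subgroup Y).subtype :)
    have hgs : Function.Surjective g := by
      intro v
      have h3 : v ∈ (Q : Subgroup Y).map f' := hQt ▸ mem_top v
      obtain ⟨q, hq, hqv⟩ := h3
      exact ⟨⟨q, hq⟩, hqv⟩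
    have hgi : Function.Injective g := by
      rw [injective_iff_map_eq_one]
      intro q hq
      have h3 : ((((q : Y) : N K P) : G) : G ⧸ K) = 1 := congrArg Subtype.val hq
      rw [QuotientGroup.eq_one_iff] at h3
      obtain ⟨k, hk⟩ := (IsPGroup.iff_orderOf.1 Q.isPGroup') q
      have h4 : orderOf (((q : Y) : N K P) : G) = 2 ^ k := by
        rw [Subgroup.orderOf_coe, Subgroup.orderOf_coe, Subgroup.orderOf_coe, hk]
      have h5 : 2 ^ k ∣ Nat.card K := by
        rw [← h4, ← Subgroup.orderOf_mk _ h3]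
        exact _root_.orderOf_dvd_natCard _
      have h6 : k = 0 := by
        by_contra h7
        exact h2 ((dvd_pow_self 2 h7).trans h5)
      rw [h6, pow_zero, orderOf_eq_one_iff] at hk
      exact hk
    let e : Q ≃* V := MulEquiv.ofBijective g ⟨hgi, hgs⟩
    let j : Q →* G := (N K P).subtype.comp (Y.subtype.comp ((Q : Subgroup Y).subtype :))
    have hj : Function.Injective j := fun a b hab => Subtype.ext (Subtype.ext (Subtype.ext hab))
    set! B : Subgroup G := j.range with hB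
    have hBe : Cfsg.IsElementaryAbelian 2 B := by
      have hc : ∀ a b : Q, a * b = b * a := by
        intro a b
        apply e.injective
        rw [map_mul, map_mul]
        have := hV.isMulCommutative
        exact mul_comm' _ _
      refine ⟨⟨⟨?_⟩⟩, ?_⟩
      · rintro ⟨_, a, rfl⟩ ⟨_, b, rfl⟩
        apply Subtype.ext
        change j a * j b = j b * j a
        rw [← map_mul, ← map_mul, hc]
      · rintro _ ⟨a, rfl⟩
        rw [← map_pow]
        have : a ^ 2 = 1 := by
          apply e.injective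
          rw [map_pow, map_one, pow_two]
          exact IsKleinFour.mul_self _
        rw [this, map_one]
    have hBc : Nat.card B = 2 ^ 2 := by
      rw [hB, ← Nat.card_congr (MonoidHom.ofInjective hj).toEquiv, Nat.card_congr e.toEquiv, hV.card_four]
      norm_num
    have hBN : B ≤ N K P := by
      rintro _ ⟨a, rfl⟩
      exact (((a : Q) : Y) : N K P).2
    have hTp := isPGroup_T K P
    have hT2 : ¬ 2 ∣ Nat.card (T K P) := by
      obtain ⟨k, hk⟩ := hTp.exists_card_eq
      rw [hk]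
      intro h
      exact hs2 ((Nat.prime_dvd_prime_iff_eq Nat.prime_two hs).1 (Nat.prime_two.dvd_of_dvd_pow h)).symm
    have hgen := Cfsg.Agent.SignalizersComponents.CoprimeGen.le_iSup_centralizer_ne_one hBe hBc.ge hT2 hBN
    by_contra hno
    apply T_ne_bot K P hsK
    rw [eq_bot_iff]
    refine hgen.trans (iSup_le ?_)
    rintro ⟨a, haB, ha1⟩ v ⟨hvT, hva⟩
    rw [Subgroup.mem_bot]
    by_contra hv1
    have hBp : IsPGroup 2 B := IsPGroup.of_card hBc
    exact hno (adj_of_groups Nat.prime_two hs (Ne.symm hs2) hBp hTp haB hvT ha1 hv1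
      (mem_centralizer_iff.1 hva a (Set.mem_singleton a)))

/-- **The reduction.** -/
theorem reduction (H : Subgroup G) [hHn : H.Normal] (hKH : K ≤ H) (hK : Group.IsNilpotent K)
    (hS : IsSimpleGroup (↥H ⧸ K.subgroupOf H)) (hna : ¬ IsMulCommutative (↥H ⧸ K.subgroupOf H))
    (hC : Subgroup.centralizer ((H.map (QuotientGroup.mk' K) : Subgroup (G ⧸ K)) : Set (G ⧸ K)) = ⊥)
    (hinv : ∀ (S : Subgroup (G ⧸ K)), Nonempty (S ≃* ↥H ⧸ K.subgroupOf H) → CopInv S)
    (hrow : ∀ (S : Subgroup (G ⧸ K)), Nonempty (S ≃* ↥H ⧸ K.subgroupOf H) → Row S)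
    (hnc : ¬ IsCyclic (G ⧸ H)) :
    ∃ r : ℕ, r.Prime ∧ r ∣ Nat.card (G ⧸ H) ∧
      ∀ s : ℕ, s.Prime → s ∣ Nat.card G → s ≠ r → ∃ g : G, orderOf g = r * s := by
  set S : Subgroup (G ⧸ K) := H.map (QuotientGroup.mk' K) with hSdef
  have hSn : S.Normal := hHn.map _ (QuotientGroup.mk'_surjective K)
  -- the isomorphism
  have e : Nonempty (S ≃* ↥H ⧸ K.subgroupOf H) := by
    let f : H →* S := (QuotientGroup.mk' K).subgroupMap H
    have hf : Function.Surjective f := (QuotientGroup.mk' K).subgroupMap_surjective H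
    have hk : f.ker = K.subgroupOf H := by
      ext x
      rw [MonoidHom.mem_ker, mem_subgroupOf, ← QuotientGroup.eq_one_iff (N := K), Subtype.ext_iff]
      rfl
    exact ⟨((QuotientGroup.quotientMulEquivOfEq hk).symm.trans (QuotientGroup.quotientKerEquivOfSurjective f hf)).symm⟩
  obtain ⟨e⟩ := e
  have hsimple : IsSimpleGroup S := e.isSimpleGroup
  have hna' : ¬ IsMulCommutative S := by
    intro h
    apply hna
    refine ⟨⟨fun a b => ?_⟩⟩
    apply e.symm.injective
    rw [map_mul, map_mul]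
    exact h.is_comm.comm _ _
  have e2 : (G ⧸ K) ⧸ S ≃* G ⧸ H := QuotientGroup.quotientQuotientEquivQuotient K H hKH
  obtain ⟨r, hr, hrd, hr2, hall⟩ := main S hna' hC (hinv S ⟨e⟩) (hrow S ⟨e⟩) (fun h => hnc (e2.isCyclic.1 h))
  refine ⟨r, hr, by rwa [Nat.card_congr e2.toEquiv] at hrd, fun s hs hsG hsr => ?_⟩
  apply exists_of_adj
  by_cases hsX : s ∣ Nat.card (G ⧸ K)
  · exact adj_lift K (hall s hs hsX hsr)
  · have hsK : s ∣ Nat.card K := by
      rw [Subgroup.card_eq_card_quotient_mul_card_subgroup K] at hsG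
      exact (hs.dvd_mul.1 hsG).resolve_left hsX
    rcases hr2 with rfl | ⟨hr2, E, hE, hEnc⟩
    · obtain ⟨V, hV⟩ := Cfsg.Agent.S0204.result (G := S) (fun h => hna' (by
        have := h.commGroup
        exact ⟨⟨fun a b => (IsCyclic.commGroup (α := S)).mul_comm a b⟩⟩))
      have e3 : V ≃* V.map S.subtype := V.equivMapOfInjective _ S.subtype_injective
      have hV' : IsKleinFour (V.map S.subtype) := ⟨by rw [← Nat.card_congr e3.toEquiv, hV.card_four],
        by rw [← Monoid.exponent_eq_of_mulEquiv e3, hV.exponent_two]⟩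
      exact adj_two_kernel K hK hs hsr hsK _ hV'
    · exact adj_of_noncyclic K hr hs (Ne.symm hsr) hr2 hsK E hE hEnc

end Cfsg.Agent.H160.NC
end

-- part: H160/NC/Cop
section
/-!
# Coprime automorphisms of simple groups of Lie type fix an involution (helper160, for S4185)
-/

set_option autoImplicit false

namespace Cfsg.Agent.H160.NC

open Subgroup Cfsg
open Cfsg.Agent.FixBN (HasSplit)

/-- every simple group of Lie type has a split (B,N)-pair -/
theorem hasSplit_of_lie {p : ℕ} (hp : p.Prime) {K : Type*} [Group K] [IsSimpleGroup K] (h : IsLieTypeChar p K) :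
    HasSplit p K := by
  rcases Nodes.RGDLie.hasRGD_of_lie h with h1 | ⟨rfl, -⟩ | ⟨rfl, -⟩ | ⟨rfl, h1⟩
  · exact Omega.ML.LieRow.hasSplit_of_rgd hp h1
  · exact Omega.ML.LieRow.hasSplit_of_lie h
  · exact Omega.ML.LieRow.hasSplit_of_lie h
  · exact FixBN.ReeSplit.hasSplit_of_isoRee h1

theorem copInv_of_lie {p : ℕ} (hp : p.Prime) {K : Type*} [Group K] [Finite K] [IsSimpleGroup K]
    (h : IsLieTypeChar p K) : CopInv K := by
  intro s hs _ hd x hx
  have : Fact p.Prime := ⟨hp⟩
  have : Fact s.Prime := ⟨hs⟩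
  exact H388.EvenFix.exists_involution_of_hasSplit (hasSplit_of_lie hp h) hd x hx

end Cfsg.Agent.H160.NC
end

-- part: H160/NC/UAdj
section
/-!
# Adjacency in `PSU_n(q)` by blocks; cyclic Sylow subgroups of `PSU_n(q)` (helper160, for S4185)
-/

set_option autoImplicit false
set_option linter.unusedSectionVars false
set_option linter.style.haveILetI false

namespace Cfsg.Agent.H160.NC.UAdj

open Module
open Cfsg Cfsg.Agent.LieClassical Cfsg.Agent.LieClassical.HermBasic
open Cfsg.Agent.H948.UBase Cfsg.Agent.H948.UProd Cfsg.Agent.H948.UMain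
open Cfsg.Agent.H94.PG (Adj adj_of_dvd)
open Cfsg.Agent.H182.Cent Cfsg.Agent.H160.NC
open Cfsg.Agent.LieClassical.HermSiegel (act mat act_mul act_one mat_one mat_mul mat_injective)
open Cfsg.Agent.ClassicalGeometry.PSUAutBasic (pr pr_eq_one_iff)

variable {F : Type*} [Field F] [Fintype F] {q : ℕ}

/-- two blocks -/
theorem adj_blocks (hF : Fintype.card F = q ^ 2) {m k n : ℕ} (hm : 1 ≤ m) (hk : 1 ≤ k) (hmk : m + k ≤ n) (hn : 3 ≤ n)
    {u v : ℕ} (hu : u.Prime) (hv : v.Prime) (huv : u ≠ v) (hdu : u ∣ Nat.card (SU m F q))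
    (hdv : v ∣ Nat.card (SU k F q)) : Adj (PSU n F q) u v := by
  obtain ⟨B, hB⟩ := exists_space hF m
  obtain ⟨B', hB'⟩ := exists_space hF k
  obtain ⟨C, hC⟩ := exists_space hF (n - m - k)
  obtain ⟨S, hS, hdS, hSu, hS1⟩ := exists_iso_of_mem hB (by rw [Module.finrank_fin_fun]) hu hdu
  obtain ⟨T, hT, hdT, hTv, hT1⟩ := exists_iso_of_mem hB' (by rw [Module.finrank_fin_fun]) hv hdv
  have hD : IsHerm hF (prodForm B (prodForm B' C)) := isHerm_prod hB (isHerm_prod hB' hC)
  have hne1 : (fun _ => 1 : Fin m → F) ≠ 0 := by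
    intro h0
    have := congrFun h0 ⟨0, by omega⟩
    simp at this
  have hne2 : (fun _ => 1 : Fin k → F) ≠ 0 := by
    intro h0
    have := congrFun h0 ⟨0, by omega⟩
    simp at this
  refine adj_of_iso hD ?_ hn hu hv (S := S.prodMap 1) (T := LinearMap.prodMap 1 (T.prodMap 1))
    (iso_prod hS Iso.one) (iso_prod Iso.one (iso_prod hT Iso.one)) ?_ ?_ ?_ ?_ ?_ ?_ ?_ huv
  · rw [Module.finrank_prod, Module.finrank_prod, Module.finrank_fin_fun,
      Module.finrank_fin_fun, Module.finrank_fin_fun]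
    omega
  · rw [det_prod, hdS, map_one, one_mul]
  · rw [det_prod, det_prod, hdT, map_one, map_one, one_mul, one_mul]
  · exact commute_prod (Commute.one_right _) (Commute.one_left _)
  · exact not_isScal_of (prodMap_one_ne hS1)
      (x := ((0 : Fin m → F), ((fun _ => 1 : Fin k → F), (0 : Fin (n - m - k) → F))))
      (by intro h0; exact hne2 (congrArg (fun z => z.2.1) h0)) (by simp)
  · exact not_isScal_of (one_prodMap_ne (prodMap_one_ne hT1))
      (x := ((fun _ => 1 : Fin m → F), ((0 : Fin k → F), (0 : Fin (n - m - k) → F))))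
      (by intro h0; exact hne1 (congrArg Prod.fst h0)) (by simp)
  · rw [prodMap_pow, hSu, one_pow]
    refine ⟨1, fun x => ?_⟩
    simp
  · rw [prodMap_pow, prodMap_pow, one_pow, one_pow, hTv]
    refine ⟨1, fun x => ?_⟩
    simp

/-- elements of one block -/
theorem dvd_card_psu (hF : Fintype.card F = q ^ 2) {m n : ℕ} (hm : 1 ≤ m) (hmn : m < n) (hn : 3 ≤ n)
    {u : ℕ} (hu : u.Prime) (hdu : u ∣ Nat.card (SU m F q)) : u ∣ Nat.card (PSU n F q) := by
  obtain ⟨B, hB⟩ := exists_space hF m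
  obtain ⟨C, hC⟩ := exists_space hF (n - m)
  obtain ⟨S, hS, hdS, hSu, hS1⟩ := exists_iso_of_mem hB (by rw [Module.finrank_fin_fun]) hu hdu
  have hD : IsHerm hF (prodForm B C) := isHerm_prod hB hC
  have hne2 : (fun _ => 1 : Fin (n - m) → F) ≠ 0 := by
    intro h0
    have := congrFun h0 ⟨0, by omega⟩
    simp at this
  have hfin : Module.finrank F ((Fin m → F) × (Fin (n - m) → F)) = n := by
    rw [Module.finrank_prod, Module.finrank_fin_fun, Module.finrank_fin_fun]
    omega
  obtain ⟨e, he⟩ := exists_coord hD hfin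
  let R : isoM (prodForm B C) := ⟨S.prodMap 1, iso_prod hS Iso.one, by rw [det_prod, hdS, map_one, one_mul]⟩
  have := Fact.mk hu
  have ho : orderOf (pr n F q (suHom e he R)) = u := by
    apply orderOf_eq_prime
    · rw [← map_pow, ← map_pow, pr_suHom_eq_one_iff hn]
      change IsScal ((S.prodMap 1) ^ u)
      rw [prodMap_pow, hSu, one_pow]
      refine ⟨1, fun x => ?_⟩
      simp
    · rw [Ne, pr_suHom_eq_one_iff hn]
      change ¬ IsScal (S.prodMap (1 : Module.End F (Fin (n - m) → F)))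
      exact not_isScal_of (prodMap_one_ne hS1)
        (x := ((0 : Fin m → F), (fun _ => 1 : Fin (n - m) → F)))
        (by intro h0; exact hne2 (congrArg (fun z => z.2) h0)) (by simp only [_root_.LinearMap.prodMap_apply, _root_.map_zero, _root_.Module.End.one_apply])
  rw [← ho]
  exact orderOf_dvd_natCard _

/-- `n = 3`, `3 ∣ q + 1` -/
theorem adj_three (hF : Fintype.card F = q ^ 2) (h3 : 3 ∣ q + 1) {s : ℕ} (hs : s.Prime) (hs3 : s ≠ 3)
    (hd : s ∣ q + 1) : Adj (PSU 3 F q) 3 s := by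
  have hq2 := two_le hF
  have key : ∀ {u : ℕ}, u ∣ q + 1 → ∃ c : F, orderOf c = u ∧ c ^ u = 1 ∧ c ^ (q + 1) = 1 := by
    intro u hu
    obtain ⟨c, hc, hc1⟩ := exists_unit_order hF (N := u) (by
      rw [sq_sub_one q (by omega)]; exact Dvd.dvd.mul_right hu _)
    refine ⟨c, hc, hc1, ?_⟩
    obtain ⟨k, hk⟩ := hu
    rw [hk, pow_mul, hc1, one_pow]
  obtain ⟨c, hc, hc1, hcq⟩ := key h3
  obtain ⟨d, hd, hd1, hdq⟩ := key hd
  have hc0 := ne_zero_of_norm hcq
  have hd0 := ne_zero_of_norm hdq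
  refine adj_of_iso (herm_B3 (hF := hF)) finrank_three le_rfl Nat.prime_three hs
    (S := LinearMap.prodMap (LinearMap.prodMap (c • (1 : Module.End F F)) (c⁻¹ • (1 : Module.End F F))) 1)
    (T := T3 F d)
    (iso_prod (iso_prod (iso_smul hcq) (iso_smul (by rw [inv_pow, hcq, inv_one]))) Iso.one) (iso_T3 hdq)
    ?_ (det_T3 hd0) ?_ ?_ ?_ ?_ ?_ hs3.symm
  · rw [det_prod, det_prod, map_one, LinearMap.det_smul, LinearMap.det_smul, map_one, Module.finrank_self]
    simp [hc0]
  · refine commute_prod ?_ (Commute.one_left _)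
    exact (Commute.one_right _).smul_right d
  · have hne : (LinearMap.prodMap (LinearMap.prodMap (c • (1 : Module.End F F)) (c⁻¹ • (1 : Module.End F F)))
        (1 : Module.End F F)) ≠ 1 := by
      intro h
      have := congrArg (fun z : (F × F) × F => z.1.1) (LinearMap.congr_fun h ((1, 0), 0))
      simp only [_root_.LinearMap.prodMap_apply, _root_.LinearMap.smul_apply, _root_.Module.End.one_apply, _root_.smul_eq_mul, _root_.mul_one, _root_.MulZeroClass.mul_zero] at this
      rw [this, orderOf_one] at hc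
      omega
    exact not_isScal_of hne (x := ((0 : F × F), (1 : F))) (by simp) (by simp only [_root_.LinearMap.prodMap_apply, _root_.Prod.fst_zero, _root_.LinearMap.smul_apply, _root_.Module.End.one_apply, _root_.smul_eq_mul, _root_.MulZeroClass.mul_zero, _root_.Prod.snd_zero, _root_.Prod.mk.injEq, _root_.Prod.mk_eq_zero, _root_.and_self])
  · rintro ⟨e, he⟩
    have h3 := he ((1, 0), 1)
    have h4 : d = e := by
      have := congrArg (fun z : (F × F) × F => z.1.1) h3
      simpa only [T3, _root_.LinearMap.prodMap_apply, _root_.LinearMap.smul_apply, _root_.Module.End.one_apply, _root_.Prod.smul_mk, _root_.smul_eq_mul, _root_.mul_one, _root_.MulZeroClass.mul_zero] using this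
    have h5 : (d ^ 2)⁻¹ = e := by
      have := congrArg (fun z : (F × F) × F => z.2) h3
      simpa only [T3, _root_.LinearMap.prodMap_apply, _root_.LinearMap.smul_apply, _root_.Module.End.one_apply, _root_.Prod.smul_mk, _root_.smul_eq_mul, _root_.mul_one, _root_.MulZeroClass.mul_zero] using this
    have h6 : d ^ 3 = 1 := by
      rw [← h4] at h5
      rw [pow_succ]
      nth_rewrite 2 [← h5]
      exact mul_inv_cancel₀ (pow_ne_zero _ hd0)
    have h7 : s ∣ 3 := by rw [← hd]; exact orderOf_dvd_of_pow_eq_one h6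
    exact hs3 ((Nat.prime_dvd_prime_iff_eq hs Nat.prime_three).1 h7)
  · rw [prodMap_pow, prodMap_pow, smul_pow, smul_pow, one_pow, inv_pow, hc1]
    refine ⟨1, fun x => ?_⟩
    simp only [_root_.one_smul, _root_.inv_one, _root_.LinearMap.prodMap_one, _root_.Module.End.one_apply]
  · rw [T3_pow, hd1]
    refine ⟨1, fun x => ?_⟩
    simp only [T3, _root_.one_smul, _root_.one_pow, _root_.inv_one, _root_.LinearMap.prodMap_one, _root_.Module.End.one_apply]

/-- **Cyclic Sylow subgroups of `PSU_n(q)`.** -/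
theorem cyc_psu (hF : Fintype.card F = q ^ 2) {n : ℕ} (hn : 3 ≤ n) (h32 : ¬ (n = 3 ∧ q = 2)) {s : ℕ} (hs : s.Prime)
    (hs2 : s ≠ 2) (hsq : ¬ s ∣ q) (hsq1 : ¬ s ∣ q + 1) (hno : ¬ s ∣ Nat.card (SU (n - 2) F q)) :
    Cyc (PSU n F q) s := by
  have hdim : finrank F (Fin n → F) = n := by simp only [_root_.Module.finrank_fintype_fun_eq_card, _root_.Fintype.card_fin]
  have hU := uRow_su hF hn h32
  have hsF : (s : F) ≠ 0 := fun h => hsq ((charZero_iff hF hs).1 h)
  have hcop : s.Coprime (q + 1) := (Nat.Prime.coprime_iff_not_dvd hs).2 hsq1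
  have hge : ∀ x : SU n F q, x ^ s = 1 → x ≠ 1 → ∀ Z : Submodule F (Fin n → F), _root_.Cfsg.Agent.H182.Cent.Inv (rhoSU n F q x) Z → Z ≠ ⊥ →
      NonDeg (fun v w : Fin n → F => hermForm n F q v w) Z → (∀ z ∈ Z, rhoSU n F q x z = z → z = 0) →
      n - 1 ≤ finrank F Z := by
    intro x hx hx1 Z hZ h0 hndZ hfix
    have hxr : (rhoSU n F q x) ^ s = 1 := by rw [← map_pow, hx, map_one]
    have hdvd := dvd_card_of_block hF (rhoSU_isom x) hs hsq1 hxr hZ h0 hndZ hfix
    have hpos : 1 ≤ finrank F Z := by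
      rw [Nat.one_le_iff_ne_zero]
      intro h
      exact h0 (Submodule.finrank_eq_zero.1 h)
    by_contra hlt
    rcases prime_dvd_card_SU hF hpos hs hdvd with h | ⟨i, hi1, hi, h⟩
    · exact hsq h
    · exact hno (dvd_card_SU hF (by omega) (by omega : i < n - 2) h)
  have hlarge : ∀ x : SU n F q, x ^ s = 1 → x ≠ 1 →
      Large (fun v w : Fin n → F => hermForm n F q v w) (rhoSU n F q x) := by
    intro x hx hx1 Z hZ h0 hndZ hfix
    have := hge x hx hx1 Z hZ h0 hndZ hfix
    rw [hdim]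
    constructor <;> omega
  intro _ P
  refine cyc_of_lift (hB := sform_su (n := n) hF) hU.inj hU.isom hs hs2
    (fun t ht => exists_lift' hU.center hcop t ht) (fun x a hx hc => commute_lift' hU.center hcop hx hc)
    (fun x hx hx1 => hU.isoP hs hs2 hsF hx hx1) hlarge (Or.inr fun x hx hx1 => ?_) P
  have hX := hU.isoP hs hs2 hsF hx hx1
  have h1 := hge x hx hx1 _ hX.invY hX.Y_ne_bot hX.nonDegY (fun z hz => hX.fixY hz)
  have h2 := hX.finrank_add
  rw [hdim] at h2 ⊢
  constructor <;> omega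

end Cfsg.Agent.H160.NC.UAdj
end

-- part: H160/NC/RowU
section
/-!
# The row `PSU_n(q)` (helper160, for S4185)
-/

set_option autoImplicit false
set_option linter.unusedSectionVars false

namespace Cfsg.Agent.H160.NC.RowU

open Module Subgroup
open Cfsg Cfsg.Agent.LieClassical Cfsg.Agent.LieClassical.HermBasic
open Cfsg.Agent.H948.UBase Cfsg.Agent.H948.UProd Cfsg.Agent.H948.UMain
open Cfsg.Agent.H94.PG (Adj adj_of_dvd)
open Cfsg.Agent.H182.Cent Cfsg.Agent.H160.NC Cfsg.Agent.H160.NC.UAdj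

variable {F : Type*} [Field F] [Fintype F] {q : ℕ}

/-- the primes dividing `q (q + 1)` -/
theorem dvd_card_two (hF : Fintype.card F = q ^ 2) {m s : ℕ} (hm : 2 ≤ m) (h : s ∣ q ∨ s ∣ q + 1) :
    s ∣ Nat.card (SU m F q) := by
  rcases h with h | h
  · rw [card_SU hF (by omega)]
    apply Dvd.dvd.mul_right
    refine h.trans (dvd_pow_self q ?_)
    have : 2 ≤ m * (m - 1) := by nlinarith [Nat.sub_add_cancel (by omega : 1 ≤ m)]
    omega
  · exact dvd_card_SU hF hm (i := 0) (by omega) (by rwa [ph_zero])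

theorem two_dvd (hF : Fintype.card F = q ^ 2) {m : ℕ} (hm : 2 ≤ m) : 2 ∣ Nat.card (SU m F q) :=
  dvd_card_two hF hm (by omega)

/-- primes at most `n` divide the order -/
theorem dvd_card_of_le (hF : Fintype.card F = q ^ 2) {n s : ℕ} (hn : 3 ≤ n) (hs : s.Prime) (hsn : s ≤ n) :
    s ∣ Nat.card (PSU n F q) := by
  have hq2 := two_le hF
  by_cases h : s ∣ q
  · exact dvd_card_psu hF (m := 2) (by omega) (by omega) hn hs (dvd_card_two hF le_rfl (Or.inl h))
  · by_cases hs2 : s = 2
    · subst hs2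
      exact dvd_card_psu hF (m := 2) (by omega) (by omega) hn hs (two_dvd hF le_rfl)
    · have fs : Fact s.Prime := ⟨hs⟩
      have h2 : Nat.Coprime q s := ((Nat.Prime.coprime_iff_not_dvd hs).2 h).symm
      have h3 : s ∣ q ^ (s - 1) - 1 := by
        have h4 := Nat.ModEq.pow_totient h2
        rw [Nat.totient_prime hs] at h4
        exact (Nat.modEq_iff_dvd' (Nat.one_le_pow _ _ (by omega))).1 h4.symm
      have h4 := hs.two_le
      have hodd : ¬ Even (s - 2) := by
        have := hs.odd_of_ne_two hs2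
        obtain ⟨k, hk⟩ := this
        rw [Nat.not_even_iff_odd]
        exact ⟨k - 1, by omega⟩
      have h5 : s ∣ ph q (s - 2) := by
        rw [ph_odd hodd]
        have : s - 2 + 1 = s - 1 := by omega
        rwa [this]
      exact dvd_card_psu hF (m := s - 1) (by omega) (by omega) hn hs (dvd_card_SU hF (by omega) (by omega) h5)

/-- **two-part** -/
theorem okTwo_psu (hF : Fintype.card F = q ^ 2) {n : ℕ} (hn : 4 ≤ n) {s : ℕ} (hs : s.Prime) (hs2 : s ≠ 2) :
    OkTwo (PSU n F q) s := by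
  by_cases h : s ∣ Nat.card (SU (n - 2) F q)
  · exact Or.inl (adj_blocks hF (m := n - 2) (k := 2) (by omega) (by omega) (by omega) (by omega) hs Nat.prime_two hs2
      h (two_dvd hF le_rfl)).symm
  · refine Or.inr (Or.inl (cyc_psu hF (by omega) (by omega) hs hs2 (fun h1 => h ?_) (fun h1 => h ?_) h))
    · exact dvd_card_two hF (by omega) (Or.inl h1)
    · exact dvd_card_two hF (by omega) (Or.inr h1)

/-- the Sylow `p`-subgroups of `PSU_3(q)` -/
theorem card_sylow (hF : Fintype.card F = q ^ 2) {s : ℕ} [Fact s.Prime] (h : s ∣ q) (P : Sylow s (PSU 3 F q)) :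
    Nat.card P = q ^ 3 := by
  obtain ⟨p, k, hp, hchar, hk, hk0⟩ := exists_prime_pow hF
  have hs := (Fact.out : s.Prime)
  have hsp : s = p := by
    rw [hk] at h
    exact (Nat.prime_dvd_prime_iff_eq hs hp).1 (hs.dvd_of_dvd_pow h)
  subst hsp
  have hq2 := two_le hF
  have h1 := S0280.result hF 3 (by norm_num)
  have e1 : (∏ i ∈ Finset.range 3, if Even i then q ^ (i + 1) + 1 else q ^ (i + 1) - 1) =
      (q + 1) * (q ^ 2 - 1) * (q ^ 3 + 1) := by
    rw [Finset.prod_range_succ, Finset.prod_range_succ, Finset.prod_range_succ, Finset.prod_range_zero, one_mul]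
    simp only [_root_.Even.zero, ↓ _root_.reduceIte, _root_.zero_add, _root_.pow_one, _root_.Nat.not_even_one, _root_.Nat.reduceAdd, _root_.even_two]
  rw [e1, show 3 * (3 - 1) / 2 = 3 from rfl] at h1
  have hn1 : ¬ s ∣ q + 1 := fun h2 => hs.one_lt.ne' (Nat.dvd_one.1 ((Nat.dvd_add_right h).1 h2))
  have hn2 : ¬ s ∣ q ^ 2 - 1 := fun h2 => by
    have h3 : s ∣ q ^ 2 := h.trans (dvd_pow_self q (by norm_num))
    have h4 : 1 ≤ q ^ 2 := Nat.one_le_pow _ _ (by omega)
    have h5 : q ^ 2 = (q ^ 2 - 1) + 1 := by omega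
    rw [h5] at h3
    exact hs.one_lt.ne' (Nat.dvd_one.1 ((Nat.dvd_add_right h2).1 h3))
  have hn3 : ¬ s ∣ q ^ 3 + 1 := fun h2 =>
    hs.one_lt.ne' (Nat.dvd_one.1 ((Nat.dvd_add_right (h.trans (dvd_pow_self q (by norm_num)))).1 h2))
  set N := Nat.card (PSU 3 F q) with hN
  have hN0 : N ≠ 0 := Nat.card_pos.ne'
  have hg : ¬ s ∣ Nat.gcd 3 (q + 1) := fun h2 => hn1 (h2.trans (Nat.gcd_dvd_right _ _))
  have hg0 : Nat.gcd 3 (q + 1) ≠ 0 := Nat.gcd_ne_zero_left (by norm_num)
  have hq0 : q ≠ 0 := by omega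
  have h21 : q ^ 2 - 1 ≠ 0 := by
    have : 1 < q ^ 2 := Nat.one_lt_pow (by norm_num) (by omega)
    omega
  have h2 := congrArg (fun m : ℕ => m.factorization s) h1
  beta_reduce at h2
  rw [Nat.factorization_mul hg0 (mul_ne_zero (by omega) hN0), Nat.factorization_mul (by omega) hN0,
    Nat.factorization_mul (pow_ne_zero _ hq0) (mul_ne_zero (mul_ne_zero (by omega) h21) (by omega)),
    Nat.factorization_mul (mul_ne_zero (by omega) h21) (by omega), Nat.factorization_mul (by omega) h21] at h2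
  simp only [Finsupp.add_apply] at h2
  rw [Nat.factorization_eq_zero_of_not_dvd hg, Nat.factorization_eq_zero_of_not_dvd hn1,
    Nat.factorization_eq_zero_of_not_dvd hn2, Nat.factorization_eq_zero_of_not_dvd hn3, zero_add, zero_add, add_zero,
    add_zero, add_zero] at h2
  rw [Sylow.card_eq_multiplicity, ← hN, h2, hk, ← pow_mul, hs.factorization_pow, Finsupp.single_eq_same]

/-- **odd part** -/
theorem okOdd_psu (hF : Fintype.card F = q ^ 2) {n : ℕ} (hn : 3 ≤ n) (h32 : ¬ (n = 3 ∧ q = 2)) {r s : ℕ} (hr : r.Prime)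
    (hr2 : r ≠ 2) (hrn : r ∣ n) (hrq : r ∣ q + 1) (hs : s.Prime) (hsr : s ≠ r) : OkOdd (PSU n F q) r s := by
  rcases Nat.lt_or_ge 3 n with h4 | h4
  · by_cases h : s ∣ Nat.card (SU (n - 2) F q)
    · exact Or.inl (adj_blocks hF (m := n - 2) (k := 2) (by omega) (by omega) (by omega) (by omega) hs hr hsr
        h (dvd_card_two hF le_rfl (Or.inr hrq))).symm
    · have hs2 : s ≠ 2 := by
        rintro rfl
        exact h (two_dvd hF (by omega))
      refine Or.inr (Or.inl (cyc_psu hF (by omega) (by omega) hs hs2 (fun h1 => h ?_) (fun h1 => h ?_) h))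
      · exact dvd_card_two hF (by omega) (Or.inl h1)
      · exact dvd_card_two hF (by omega) (Or.inr h1)
  · obtain rfl : n = 3 := by omega
    have hr3 : r = 3 := (Nat.prime_dvd_prime_iff_eq hr Nat.prime_three).1 hrn
    subst hr3
    by_cases h0 : s ∣ q
    · refine Or.inr (Or.inr (Or.inr fun P => ?_))
      have fs : Fact s.Prime := ⟨hs⟩
      rw [card_sylow hF h0 P]
      have h1 : q % 3 = 2 := by omega
      rw [Nat.pow_mod, h1]
      norm_num
    · by_cases h1 : s ∣ q + 1
      · exact Or.inl (adj_three hF hrq hs hsr h1)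
      · have hs2 : s ≠ 2 := by
          rintro rfl
          (clear * - h0 h1; omega)
        refine Or.inr (Or.inl (cyc_psu hF le_rfl h32 hs hs2 h0 h1 ?_))
        change ¬ s ∣ Nat.card (SU 1 F q)
        rw [card_SU hF le_rfl]
        simpa using hs.one_lt.ne'

/-- **`PSU_n(q)`** -/
theorem row_psu (hF : Fintype.card F = q ^ 2) {n : ℕ} (hn : 3 ≤ n) (h32 : ¬ (n = 3 ∧ q = 2)) : Row (PSU n F q) := by
  obtain ⟨p, k, hp, hchar, hk, hk0⟩ := exists_prime_pow hF
  have fp : Fact p.Prime := ⟨hp⟩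
  obtain ⟨φ, -, hcyc, hcard⟩ := S2603.result (p := p) (f := k) (n := n) (by omega) hk hF hn h32
  have hle := commutator_le_ker φ
  refine ⟨?_, Or.inr ⟨?_, ?_⟩⟩
  · rintro ⟨A, hA, hAnc⟩ s hs hs2 hsd
    rcases Nat.lt_or_ge 3 n with h4 | h4
    · exact okTwo_psu hF h4 hs hs2
    · obtain rfl : n = 3 := by omega
      exfalso
      apply hAnc
      have hne : NeZero (2 * k) := ⟨by omega⟩
      refine isCyclic_of_injective (φ.comp A.subtype) ?_
      rw [injective_iff_map_eq_one]
      intro a ha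
      have h1 : orderOf (a : Out (PSU 3 F q)) ∣ 3 := by
        rw [← Subgroup.orderOf_mk (a : Out (PSU 3 F q)) (MonoidHom.mem_ker.2 ha)]
        refine (_root_.orderOf_dvd_natCard _).trans ?_
        rw [hcard]
        exact Nat.gcd_dvd_left _ _
      obtain ⟨j, hj⟩ := hA a
      have h2 : orderOf (a : Out (PSU 3 F q)) ∣ 2 ^ j := by
        apply orderOf_dvd_of_pow_eq_one
        exact congrArg Subtype.val hj
      have h3 : orderOf (a : Out (PSU 3 F q)) ∣ Nat.gcd 3 (2 ^ j) := Nat.dvd_gcd h1 h2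
      have h4 : Nat.Coprime 3 (2 ^ j) := Nat.Coprime.pow_right j (by norm_num)
      rw [h4] at h3
      exact Subtype.ext (orderOf_eq_one_iff.1 (Nat.dvd_one.1 h3))
  · intro s hs hsd a ha
    refine mem_center_of_card_lt φ.ker hle hs ?_ a ha
    rw [hcard]
    by_contra hlt
    push Not at hlt
    exact hsd (dvd_card_of_le hF hn hs (hlt.trans (Nat.le_of_dvd (by omega) (Nat.gcd_dvd_left _ _))))
  · intro r hr hr2 hd
    have h1 : r ∣ Nat.gcd n (q + 1) := by
      rw [← hcard]
      exact hd.trans (Subgroup.card_dvd_of_le hle)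
    have hrn := h1.trans (Nat.gcd_dvd_left _ _)
    have hrq := h1.trans (Nat.gcd_dvd_right _ _)
    exact ⟨dvd_card_psu hF (m := 2) (by omega) (by omega) hn hr (dvd_card_two hF le_rfl (Or.inr hrq)),
      fun s hs hsr _ => okOdd_psu hF hn h32 hr hr2 hrn hrq hs hsr⟩

end Cfsg.Agent.H160.NC.RowU
end

-- part: H160/NC/RowCl
section
/-!
# The rows `PSp`, `PΩ`, `PΩ⁺`, `PΩ⁻` (helper160, for S4185)
-/

set_option autoImplicit false
set_option linter.unusedSectionVars false

namespace Cfsg.Agent.H160.NC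

open Subgroup Cfsg
open Cfsg.Agent.H94.PG (Adj adj_of_dvd)
open Cfsg.Agent.H182.Cent Cfsg.Agent.LieClassical.OrthCore Cfsg.Agent.LieClassical.OrthForms
open Cfsg.Agent.H182.Sign Cfsg.Agent.H182.Orth

/-! ### two-parts -/

theorem okTwo_psp {F : Type*} [Field F] [Finite F] {m : ℕ} (hm : 2 ≤ m) {r : ℕ} (hr : r.Prime) (hr2 : r ≠ 2) :
    OkTwo (PSp m F) r := by
  exact rowData_okTwo (rowData_sp (F := F) hm) hr hr2

theorem okTwo_odd {F : Type*} [Field F] [Finite F] (ho : Odd (Nat.card F)) {m : ℕ} (hm : 3 ≤ m) {r : ℕ} (hr : r.Prime)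
    (hr2 : r ≠ 2) : OkTwo (POmega F (quadFormOdd m F)) r := by
  have h1 : OkTwo (Cfsg.POmega F ⇑(oddForm m F)) r := rowData_okTwo (rowData_odd ho hm) hr hr2
  rw [coe_oddForm] at h1
  exact h1

theorem okTwo_plus {F : Type*} [Field F] [Finite F] {m : ℕ} (hm : 4 ≤ m) {r : ℕ} (hr : r.Prime)
    (hr2 : r ≠ 2) : OkTwo (POmega F (quadFormPlus m F)) r := by
  have h1 : OkTwo (Cfsg.POmega F ⇑(plusForm m F)) r := rowData_okTwo (rowData_orth (sg_plusForm (F := F) m) hm) hr hr2
  rw [coe_plusForm] at h1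
  exact h1

theorem okTwo_minus {F : Type*} [Field F] [Finite F] {m : ℕ} (hm : 4 ≤ m) {a b : F}
    (hab : ∀ z₁ z₂ : F, z₁ ^ 2 + a * z₁ * z₂ + b * z₂ ^ 2 = 0 → z₁ = 0 ∧ z₂ = 0) {r : ℕ} (hr : r.Prime)
    (hr2 : r ≠ 2) : OkTwo (POmega F (quadFormMinus (m - 1) F a b)) r := by
  have hs := sg_minusForm (F := F) (m - 1) hab
  rw [Nat.sub_add_cancel (by omega)] at hs
  have h1 : OkTwo (Cfsg.POmega F ⇑(minusForm (m - 1) F a b)) r := rowData_okTwo (rowData_orth hs hm) hr hr2
  rw [coe_minusForm] at h1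
  exact h1

/-! ### `PSp` -/

section Sp

open Cfsg.Agent.ClassicalGeometry.SympBasic Cfsg.Agent.ClassicalGeometry.SympAutSemi
  Cfsg.Agent.ClassicalGeometry.SympGamma Cfsg.Agent.H966.PSpField Cfsg.Agent.H521.OddFixSymp

variable {F : Type*} [Field F] {m : ℕ}

/-- the field automorphism of a semisimilitude -/
noncomputable def sig (hm : 1 ≤ m) : semiSim m F →* (F ≃+* F) where
  toFun g := g.2.choose
  map_one' := by
    have h1 := (1 : semiSim m F).2.choose_spec.choose_spec.2
    have h2 : IsSemi (1 : semiSim m F).1 (RingEquiv.refl F) 1 :=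
      ⟨fun _ _ => rfl, fun _ _ => rfl, fun _ _ => by simp only [_root_.OneMemClass.coe_one, _root_.Equiv.Perm.coe_one, _root_.id_eq, _root_.RingEquiv.refl_apply, _root_.one_mul]⟩
    exact (IsSemi.unique hm h1 h2).1
  map_mul' g h := by
    have h1 := (g * h).2.choose_spec.choose_spec.2
    have h2 := g.2.choose_spec.choose_spec.2
    have h3 := h.2.choose_spec.choose_spec.2
    exact (IsSemi.unique hm h1 (h2.mul h3)).1

theorem row_psp [Finite F] (hm : 2 ≤ m) : Row (PSp m F) where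
  two _ s hs hs2 _ := okTwo_psp hm hs hs2
  out := by
    left
    intro A hA
    by_cases h3 : 3 ≤ m ∨ (2 : F) ≠ 0
    · have hm1 : 1 ≤ m := by omega
      have hC : IsCyclic (F ≃+* F) := Cfsg.Agent.LieRecognition.FieldSemilinear.isCyclic_ringAut F
      refine cyclic_of_surjective ((QuotientGroup.mk' (Inn (PSp m F))).comp (Psi m F)) ?_ (sig hm1) ?_ A hA
      · intro q
        obtain ⟨z, rfl⟩ := QuotientGroup.mk_surjective q
        obtain ⟨g, hg⟩ := ClassicalGeometry.SympAutExists.exists_semi hm z (ClassicalGeometry.SympAutOddA.recog hm h3 z)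
        exact ⟨g, congrArg _ hg⟩
      · intro g hg
        refine ⟨1, ?_⟩
        obtain ⟨l, hl, hs⟩ := g.2.choose_spec
        have hs' : IsSemi g.1 (RingEquiv.refl F) l := by
          have : g.2.choose = RingEquiv.refl F := hg
          rwa [this] at hs
        obtain ⟨x, hx⟩ := psi_sq_inner hl hs'
        rw [pow_one, ← map_pow]
        change (QuotientGroup.mk' (Inn (PSp m F))) (Psi m F (g ^ 2)) = 1
        rw [map_pow, hx, QuotientGroup.mk'_apply, QuotientGroup.eq_one_iff]
        exact ⟨x, rfl⟩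
    · push Not at h3
      have hm2 : m = 2 := by omega
      subst hm2
      classical
      let _ := Fintype.ofFinite F
      have hc2 : CharP F 2 := CharTwo.of_one_ne_zero_of_two_eq_zero one_ne_zero h3.2
      obtain ⟨f, -, hf⟩ := FiniteField.card F 2
      have hout := (S2600.result (F := F) f.pos hf).1
      exact Subgroup.isCyclic A

end Sp

/-! ### the orthogonal groups -/

theorem zmod_two_pow (x : Multiplicative (ZMod 2)) : x ^ 4 = 1 := by
  revert x
  decide

theorem isPGroup_two {P : Type*} [Group P] (h : ∀ x : P, x ^ 4 = 1) : IsPGroup 2 P := fun x => ⟨2, h x⟩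

theorem row_odd {F : Type*} [Field F] [Fintype F] (ho : Odd (Fintype.card F)) {m : ℕ} (hm : 3 ≤ m) :
    Row (POmega F (quadFormOdd m F)) where
  two _ s hs hs2 _ := okTwo_odd (by rwa [Nat.card_eq_fintype_card]) hm hs hs2
  out := by
    left
    intro A hA
    obtain ⟨p, hp⟩ := CharP.exists F
    have fp : Fact p.Prime := ⟨CharP.char_is_prime F p⟩
    obtain ⟨f, -, hf⟩ := FiniteField.card F p
    have hp2 : p ≠ 2 := by
      rintro rfl
      rw [hf] at ho
      exact (Nat.not_even_iff_odd.2 ho) ((Nat.even_pow.2 ⟨even_two, f.ne_zero⟩))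
    obtain ⟨e⟩ := S2604.result f.pos hf hp2 hm
    have hfin : Finite (Out (POmega F (quadFormOdd m F))) := inferInstance
    have hne : NeZero (f : ℕ) := ⟨f.ne_zero⟩
    refine cyclic_of_equiv (e.trans (MulEquiv.prodMultiplicative _ _)) (isPGroup_two fun x => ?_) A hA
    revert x
    decide

theorem row_minus {F : Type*} [Field F] [Fintype F] {m : ℕ} (hm : 4 ≤ m) {a b : F}
    (hab : ∀ z₁ z₂ : F, z₁ ^ 2 + a * z₁ * z₂ + b * z₂ ^ 2 = 0 → z₁ = 0 ∧ z₂ = 0) :
    Row (POmega F (quadFormMinus (m - 1) F a b)) where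
  two _ s hs hs2 _ := okTwo_minus hm hab hs hs2
  out := by
    left
    intro A hA
    obtain ⟨p, hp⟩ := CharP.exists F
    have fp : Fact p.Prime := ⟨CharP.char_is_prime F p⟩
    obtain ⟨f, -, hf⟩ := FiniteField.card F p
    have hne : NeZero (f : ℕ) := ⟨f.ne_zero⟩
    by_cases hp2 : p = 2
    · subst hp2
      have := (S2605.result f.pos hf hm a b hab).1
      exact Subgroup.isCyclic A
    · have h1 := S2606.result f.pos hf hp2 hm a b hab
      split_ifs at h1 with h2
      · obtain ⟨e⟩ := h1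
        refine cyclic_of_equiv e (isPGroup_two fun x => ?_) A hA
        revert x
        decide
      · obtain ⟨e⟩ := h1
        refine cyclic_of_equiv (e.trans (MulEquiv.prodMultiplicative _ _)) (isPGroup_two fun x => ?_) A hA
        revert x
        decide

/-- the condition on `Out` for `PΩ⁺`, `m ≥ 5` -/
theorem row_plus {F : Type*} [Field F] [Fintype F] {m : ℕ} (hm : 5 ≤ m) :
    Row (POmega F (quadFormPlus m F)) where
  two _ s hs hs2 _ := okTwo_plus (by omega) hs hs2
  out := by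
    left
    intro A hA
    obtain ⟨p, hp⟩ := CharP.exists F
    have fp : Fact p.Prime := ⟨CharP.char_is_prime F p⟩
    obtain ⟨f, -, hf⟩ := FiniteField.card F p
    have hne : NeZero (f : ℕ) := ⟨f.ne_zero⟩
    by_cases hp2 : p = 2
    · subst hp2
      have h1 := S2607.result (m := m) f.pos hf (by omega)
      rw [if_neg (by omega)] at h1
      obtain ⟨e⟩ := h1
      exact cyclic_of_equiv (e.trans (MulEquiv.prodMultiplicative _ _)) (isPGroup_two zmod_two_pow) A hA
    · have h1 := S2608.result (m := m) f.pos hf hp2 (by omega)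
      rw [if_neg (by omega)] at h1
      split_ifs at h1 with h2
      · obtain ⟨e⟩ := h1
        have e2 : Multiplicative (ZMod 2 × ZMod 2 × ZMod f) ≃* Multiplicative (ZMod 2 × ZMod 2) × Multiplicative (ZMod f) :=
          (AddEquiv.toMultiplicative (AddEquiv.prodAssoc (M := ZMod 2) (N := ZMod 2) (P := ZMod f)).symm).trans
            (MulEquiv.prodMultiplicative _ _)
        refine cyclic_of_equiv (e.trans e2) (isPGroup_two fun x => ?_) A hA
        revert x
        decide
      · obtain ⟨e⟩ := h1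
        refine cyclic_of_equiv e (isPGroup_two fun x => ?_) A hA
        revert x
        decide

end Cfsg.Agent.H160.NC
end

-- part: H160/NC/PlusFour
section
/-!
# The row `PΩ⁺_8` (helper160, for S4185)
-/

set_option autoImplicit false
set_option linter.unusedSectionVars false

namespace Cfsg.Agent.H160.NC

open Subgroup Cfsg

/-- outer automorphism groups `P × C`, `|P|` dividing `24` -/
theorem row_of_prod {S P C : Type*} [Group S] [Finite S] [Group P] [CommGroup C] (e : Out S ≃* P × C)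
    (h24 : Nat.card P ∣ 24) (h2 : 2 ∣ Nat.card S) (h3 : 3 ∣ Nat.card S)
    (htwo : ∀ s : ℕ, s.Prime → s ≠ 2 → s ∣ Nat.card S → OkTwo S s)
    (hok : ∀ s : ℕ, s.Prime → s ≠ 3 → s ∣ Nat.card S → OkOdd S 3 s) : Row S where
  two _ := htwo
  out := by
    right
    have hfP : Finite P := by
      have : Nat.card P ≠ 0 := fun h => by rw [h] at h24; norm_num at h24
      exact Nat.finite_of_card_ne_zero this
    refine ⟨?_, ?_⟩
    · intro s hs hsd a ha
      have hs24 : ¬ s ∣ 24 := by
        intro h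
        have h4 : s ∣ 2 ^ 3 * 3 := h
        rcases hs.dvd_mul.1 h4 with h5 | h5
        · rw [(Nat.prime_dvd_prime_iff_eq hs Nat.prime_two).1 (hs.dvd_of_dvd_pow h5)] at hsd
          exact hsd h2
        · rw [(Nat.prime_dvd_prime_iff_eq hs Nat.prime_three).1 h5] at hsd
          exact hsd h3
      have h1 : (e a).1 = 1 := by
        have h4 : (e a).1 ^ s = 1 := by
          rw [← Prod.pow_fst, ← map_pow, ← ha, pow_orderOf_eq_one, map_one]; rfl
        rcases (Nat.dvd_prime hs).1 (orderOf_dvd_of_pow_eq_one h4) with h5 | h5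
        · exact orderOf_eq_one_iff.1 h5
        · exact absurd (h5 ▸ (_root_.orderOf_dvd_natCard _).trans h24) hs24
      rw [mem_center_iff]
      intro b
      apply e.injective
      rw [map_mul, map_mul]
      ext
      · rw [Prod.fst_mul, Prod.fst_mul, h1, mul_one, one_mul]
      · rw [Prod.snd_mul, Prod.snd_mul, mul_comm]
    · intro r hr hr2 hd
      have h4 : Nat.card (commutator (Out S)) ∣ Nat.card P := by
        let f : commutator (Out S) →* P := ((MonoidHom.fst P C).comp e.toMonoidHom).comp (commutator (Out S)).subtype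
        have hf : Function.Injective f := by
          rw [injective_iff_map_eq_one]
          intro a ha
          apply Subtype.ext
          apply e.injective
          have h5 : ((MonoidHom.snd P C).comp e.toMonoidHom) (a : Out S) = 1 :=
            commutator_le_ker ((MonoidHom.snd P C).comp e.toMonoidHom) a.2
          rw [OneMemClass.coe_one, map_one]
          ext
          · exact ha
          · exact h5
        exact Subgroup.card_dvd_of_injective f hf
      have h5 : r ∣ 2 ^ 3 * 3 := hd.trans (h4.trans h24)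
      have hr3 : r = 3 := by
        rcases hr.dvd_mul.1 h5 with h6 | h6
        · exact absurd ((Nat.prime_dvd_prime_iff_eq hr Nat.prime_two).1 (hr.dvd_of_dvd_pow h6)) hr2
        · exact (Nat.prime_dvd_prime_iff_eq hr Nat.prime_three).1 h6
      subst hr3
      exact ⟨h3, hok⟩

theorem card_plus_four {F : Type*} [Field F] [Fintype F] :
    2 ∣ Nat.card (POmega F (quadFormPlus 4 F)) ∧ 3 ∣ Nat.card (POmega F (quadFormPlus 4 F)) := by
  have h := S0293.result (F := F) (q := Fintype.card F) rfl 4 le_rfl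
  set q := Fintype.card F with hq
  have hq1 : 1 < q := Fintype.one_lt_card
  have e1 : ∏ i ∈ Finset.range (4 - 1), (q ^ (2 * (i + 1)) - 1) = (q ^ 2 - 1) * (q ^ 4 - 1) * (q ^ 6 - 1) := by
    rw [Finset.prod_range_succ, Finset.prod_range_succ, Finset.prod_range_succ, Finset.prod_range_zero, one_mul]
  rw [e1] at h
  set N := Nat.card (POmega F (quadFormPlus 4 F)) with hN
  have e2 : q ^ 2 - 1 = (q - 1) * (q + 1) := by
    have := Nat.sq_sub_sq q 1
    rw [one_pow] at this
    rw [this, mul_comm]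
  refine ⟨?_, ?_⟩
  · rcases Nat.even_or_odd q with he | ho
    · have h1 : Nat.Coprime 4 (q ^ 4 - 1) := by
        have : Odd (q ^ 4 - 1) := by
          have h2 : Even (q ^ 4) := (Nat.even_pow.2 ⟨he, by norm_num⟩)
          have h3 : 0 < q ^ 4 := by positivity
          exact Nat.Even.sub_odd (by omega) h2 odd_one
        have h4 : Nat.Coprime 2 (q ^ 4 - 1) := (Nat.coprime_two_left).2 this
        exact Nat.Coprime.pow_left 2 h4
      rw [h1, one_mul] at h
      rw [h]
      exact Dvd.dvd.mul_right (Dvd.dvd.mul_right (dvd_pow (even_iff_two_dvd.1 he) (by norm_num)) _) _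
    · have h8 : 8 ∣ q ^ 2 - 1 := by
        obtain ⟨k, hk⟩ := ho
        rw [e2, hk, Nat.add_sub_cancel]
        obtain ⟨j, hj⟩ := Nat.even_mul_succ_self k
        refine ⟨j, ?_⟩
        have : 2 * k * (2 * k + 1 + 1) = 4 * (k * (k + 1)) := by ring
        rw [this, hj]
        ring
      have h1 : 8 ∣ Nat.gcd 4 (q ^ 4 - 1) * N := by
        rw [h]
        exact Dvd.dvd.mul_left (Dvd.dvd.mul_right (Dvd.dvd.mul_right h8 _) _) _
      have h2 : 8 ∣ 4 * N := h1.trans (Nat.mul_dvd_mul_right (Nat.gcd_dvd_left _ _) _)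
      omega
  · have h1 : 3 ∣ Nat.gcd 4 (q ^ 4 - 1) * N := by
      rw [h]
      have h2 : 3 ∣ q ∨ 3 ∣ q ^ 2 - 1 := by
        rw [e2]
        have h3 : q % 3 = 0 ∨ q % 3 = 1 ∨ q % 3 = 2 := by omega
        rcases h3 with h3 | h3 | h3
        · left; omega
        · right
          exact Dvd.dvd.mul_right (by omega) _
        · right
          exact Dvd.dvd.mul_left (by omega) _
      rcases h2 with h2 | h2
      · exact Dvd.dvd.mul_right (Dvd.dvd.mul_right (dvd_pow h2 (by norm_num)) _) _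
      · exact Dvd.dvd.mul_left (Dvd.dvd.mul_right (Dvd.dvd.mul_right h2 _) _) _
    have h2 : Nat.Coprime 3 (Nat.gcd 4 (q ^ 4 - 1)) :=
      Nat.Coprime.coprime_dvd_right (Nat.gcd_dvd_left _ _) (by norm_num)
    exact h2.dvd_of_dvd_mul_left h1

theorem row_plus_four {F : Type*} [Field F] [Fintype F]
    (hok : ∀ s : ℕ, s.Prime → s ≠ 3 → s ∣ Nat.card (POmega F (quadFormPlus 4 F)) → OkOdd (POmega F (quadFormPlus 4 F)) 3 s) :
    Row (POmega F (quadFormPlus 4 F)) := by
  obtain ⟨h2, h3⟩ := card_plus_four (F := F)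
  obtain ⟨p, hp⟩ := CharP.exists F
  have fp : Fact p.Prime := ⟨CharP.char_is_prime F p⟩
  obtain ⟨f, -, hf⟩ := FiniteField.card F p
  by_cases hp2 : p = 2
  · subst hp2
    have h1 := S2607.result (m := 4) f.pos hf le_rfl
    rw [if_pos rfl] at h1
    obtain ⟨e⟩ := h1
    refine row_of_prod e ?_ h2 h3 (fun s hs hs2 _ => okTwo_plus le_rfl hs hs2) hok
    rw [Nat.card_eq_fintype_card, Fintype.card_perm, Fintype.card_fin]
    decide
  · have h1 := S2608.result (m := 4) f.pos hf hp2 le_rfl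
    rw [if_pos rfl] at h1
    obtain ⟨e⟩ := h1
    refine row_of_prod e ?_ h2 h3 (fun s hs hs2 _ => okTwo_plus le_rfl hs hs2) hok
    rw [Nat.card_eq_fintype_card, Fintype.card_perm, Fintype.card_fin]
    decide

end Cfsg.Agent.H160.NC
end

-- part: H160/NC/RowExc
section
/-!
# The rows with cyclic outer automorphism groups (helper160, for S4185)
-/

set_option autoImplicit false
set_option linter.unusedSectionVars false

namespace Cfsg.Agent.H160.NC

open Subgroup Cfsg
open Cfsg.Agent.H523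

universe u

theorem row_of_cycOut {S : Type u} [Group S] (h : CycOut S) : Row S := by
  apply Row.of_cyclic
  obtain ⟨β, h⟩ := h
  refine ⟨⟨(β : Out S), fun x => ?_⟩⟩
  obtain ⟨α, rfl⟩ := QuotientGroup.mk_surjective x
  obtain ⟨g, k, rfl⟩ := h α
  refine mem_zpowers_iff.2 ⟨k, ?_⟩
  have h1 : ((MulAut.conj g : MulAut S) : Out S) = 1 := (QuotientGroup.eq_one_iff _).mpr ⟨g, rfl⟩
  rw [QuotientGroup.mk_mul, h1, one_mul, QuotientGroup.mk_zpow]

theorem row_G2 {F : Type u} [Field F] [Fintype F] (hq : 3 ≤ Fintype.card F) : Row ↥(Lie.chevG2.group F) :=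
  row_of_cycOut (Chev.cycOut_G2 hq)

theorem row_F4 {F : Type u} [Field F] [Fintype F] : Row ↥(Lie.chevF4.group F) :=
  row_of_cycOut Chev.cycOut_F4

theorem row_E8 {F : Type u} [Field F] [Fintype F] : Row ↥(Lie.chevE8.group F) :=
  row_of_cycOut Chev.cycOut_E8

theorem row_twD4 {K : Type} [Field K] [Fintype K] {q : ℕ} (hq : IsPrimePow q) (hK : Fintype.card K = q ^ 3) :
    Row ↥(Lie.twistedD4 K q) := by
  obtain ⟨p, hp⟩ := CharP.exists K
  have fp : Fact p.Prime := ⟨CharP.char_is_prime K p⟩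
  exact row_of_cycOut (TwD4.cycOut hq hK p)

theorem row_suzuki {S : Type u} [Group S] (h : Lie.IsoSuzuki S) : Row S := row_of_cycOut (cycOut_suzuki h)

theorem row_ree {S : Type u} [Group S] (h : Lie.IsoRee S) : Row S := row_of_cycOut (cycOut_ree h)

theorem row_twF4 {S : Type u} [Group S] (h : Lie.Iso2F4 S) : Row S := row_of_cycOut (cycOut_twF4 h)

end Cfsg.Agent.H160.NC
end

-- part: H442/OkPlus8
section
/-!
# `PΩ₈⁺(q)`: every prime `s ≠ 3` is adjacent to `3` or has cyclic Sylow subgroups (for S4185)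
-/

set_option autoImplicit false

namespace Cfsg.Agent.H442.OkPlus8

open Subgroup Cfsg Cfsg.Lie Cfsg.Agent.H72.AdjOrth Cfsg.Agent.H377

theorem adj_of {G : Type*} [Group G] [Finite G] {r s : ℕ} (hr : r.Prime) (hs : s.Prime) (hrs : r ≠ s)
    (h : ∃ g : G, orderOf g = r * s) : H94.PG.Adj G r s := by
  obtain ⟨g, hg⟩ := h
  exact H160.NC.adj_of_orderOf hr hs hrs (g := g) (by rw [hg])

/-- the primes with weight at most two -/
theorem adj_small {F : Type*} [Field F] [Fintype F] {s : ℕ} (hs : s.Prime) (hs3 : s ≠ 3)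
    (h : wO (Nat.card F) 3 + wO (Nat.card F) s ≤ 3) : H94.PG.Adj (POmega F (quadFormPlus 4 F)) 3 s :=
  adj_of Nat.prime_three hs (Ne.symm hs3) (plus_adj le_rfl Nat.prime_three hs (Ne.symm hs3) (by omega))

theorem ee_three {F : Type*} [Field F] [Fintype F] (h3 : ¬ 3 ∣ Nat.card F) : eta (ee (Nat.card F) 3) = 1 := by
  have h1 : ee (Nat.card F) 3 ∣ 3 - 1 := by
    refine ZMod.orderOf_dvd_card_sub_one ?_
    intro h4
    exact h3 ((ZMod.natCast_eq_zero_iff _ _).1 h4)
  have h2 := Nat.le_of_dvd (by norm_num) h1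
  have h4 := ee_pos Nat.prime_three h3
  rw [eta]
  generalize ee (Nat.card F) 3 = k at *
  interval_cases k <;> simp only [_root_.Nat.not_even_one, ↓ _root_.reduceIte, _root_.even_two, _root_.Order.lt_two_iff, _root_.zero_le, _root_.Nat.div_self]

/-- **The claim.** -/
theorem okOdd_plus8 (F : Type) [Field F] [Fintype F] {s : ℕ} (hs : s.Prime) (hs3 : s ≠ 3)
    (hd : s ∣ Nat.card (Cfsg.POmega F (Cfsg.quadFormPlus 4 F))) :
    H160.NC.OkOdd (Cfsg.POmega F (Cfsg.quadFormPlus 4 F)) 3 s := by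
  have hcyc : ∀ m : ℕ, ee (Nat.card F) s = m → (m = 3 ∨ m = 6) → H160.NC.Cyc (Cfsg.POmega F (Cfsg.quadFormPlus 4 F)) s := by
    intro m hm hm36
    obtain ⟨e⟩ := S1082.result (F := F)
    refine H160.NC.Cyc.congr e ?_
    have hdc : s ∣ Nat.card ↥(chevD4.group F) := by
      rw [Nat.card_congr e.toEquiv]; exact hd
    intro _ P
    refine RowE7.cyc_of_od (chevD4, [2, 4, 4, 6]) (by simp) hs (m := m) hm (by omega) ?_ ?_ hdc P
    · rcases hm36 with rfl | rfl <;> decide
    · intro h2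
      have : Fact s.Prime := ⟨hs⟩
      have h5 : s ∣ 2 ^ 6 * 3 := by
        refine h2.trans ?_
        norm_num
      rcases hs.dvd_mul.1 h5 with h6 | h6
      · have h7 := (Nat.prime_dvd_prime_iff_eq hs Nat.prime_two).1 (hs.dvd_of_dvd_pow h6)
        subst h7
        have h8 : ee (Nat.card F) 2 ∣ 2 - 1 := by
          refine ZMod.orderOf_dvd_card_sub_one ?_
          intro h4
          have h5 : orderOf ((Nat.card F : ℕ) : ZMod 2) = 0 := by
            rw [h4, orderOf_eq_zero_iff']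
            intro n hn
            rw [zero_pow hn.ne']
            exact zero_ne_one
          have h6 : ee (Nat.card F) 2 = 0 := h5
          omega
        have h9 := Nat.le_of_dvd (by norm_num) h8
        omega
      · exact hs3 ((Nat.prime_dvd_prime_iff_eq hs Nat.prime_three).1 h6)
  by_cases h3 : 3 ∣ Nat.card F
  · -- characteristic three
    obtain ⟨p, hp⟩ := CharP.exists F
    have hpp : p.Prime := CharP.char_is_prime F p
    have : Fact p.Prime := ⟨hpp⟩
    obtain ⟨n, -, hn⟩ := FiniteField.card F p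
    have hp3 : p = 3 := by
      rw [Nat.card_eq_fintype_card, hn] at h3
      exact ((Nat.prime_dvd_prime_iff_eq Nat.prime_three hpp).1 (Nat.prime_three.dvd_of_dvd_pow h3)).symm
    subst hp3
    by_cases hs2 : s = 2
    · subst hs2
      left
      refine adj_of Nat.prime_three Nat.prime_two (by norm_num) ?_
      have h1 : Elt2 F 4 1 (2 * 3) := elt2_two (F := F) (a := 2) (m := 4) (δ := 1) (by decide)
        (elt_char Nat.prime_three le_rfl) (by norm_num) (Or.inl rfl) (Or.inl rfl) (by norm_num)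
      exact h1.plus le_rfl
    have hsq : ¬ s ∣ Nat.card F := by
      rw [Nat.card_eq_fintype_card, hn]
      intro h
      exact hs3 ((Nat.prime_dvd_prime_iff_eq hs Nat.prime_three).1 (hs.dvd_of_dvd_pow h))
    have hcl := H72.AdjCoc.plus_class le_rfl hs hsq hd
    have hpos := ee_pos hs hsq
    by_cases h2 : eta (ee (Nat.card F) s) ≤ 2
    · left
      exact adj_of Nat.prime_three hs (Ne.symm hs3) (H72.Task106.plus_char Nat.prime_three (by norm_num) le_rfl hs hs2 hs3
        (by omega))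
    · right; left
      refine hcyc _ rfl ?_
      generalize ee (Nat.card F) s = k at *
      rw [eta] at hcl h2
      rw [sg] at hcl
      split_ifs at hcl h2 with hk
      · obtain ⟨j, rfl⟩ := hk
        rcases hcl with hcl | ⟨-, hcl⟩
        · omega
        · exact absurd hcl (by norm_num)
      · rw [Nat.not_even_iff_odd] at hk
        obtain ⟨j, rfl⟩ := hk
        omega
  · have hw3 : wO (Nat.card F) 3 = 1 := by
      rw [wO, if_neg (by rw [not_or]; exact ⟨by norm_num, h3⟩)]
      exact ee_three h3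
    by_cases hws : wO (Nat.card F) s ≤ 2
    · left
      exact adj_small hs hs3 (by omega)
    · have hs2 : ¬ (s = 2 ∨ s ∣ Nat.card F) := by
        intro h
        rw [wO, if_pos h] at hws
        omega
      rw [wO, if_neg hs2] at hws
      rw [not_or] at hs2
      have hcl := H72.AdjCoc.plus_class le_rfl hs hs2.2 hd
      have hpos := ee_pos hs hs2.2
      right; left
      refine hcyc _ rfl ?_
      generalize ee (Nat.card F) s = k at *
      rw [eta] at hcl hws
      rw [sg] at hcl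
      split_ifs at hcl hws with hk
      · obtain ⟨j, rfl⟩ := hk
        rcases hcl with hcl | ⟨-, hcl⟩
        · omega
        · exact absurd hcl (by norm_num)
      · rw [Nat.not_even_iff_odd] at hk
        obtain ⟨j, rfl⟩ := hk
        omega

end Cfsg.Agent.H442.OkPlus8
end

-- part: H160/NC/All
section
/-!
# All rows (helper160, for S4185)
-/

set_option autoImplicit false
set_option linter.unusedSectionVars false

namespace Cfsg.Agent.H160.NC.All

open Cfsg Subgroup Cfsg.Agent.H160.NC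

/-- **The rows**, `²E₆` excepted. -/
theorem row_of_lie (htw : ∀ (K : Type) [Field K] [Fintype K] (q : ℕ), IsPrimePow q → Fintype.card K = q ^ 2 →
    Row ↥(Lie.twistedE6 K q)) {p : ℕ} {S : Type*} [Group S] (h : IsLieTypeChar p S) : Row S := by
  rcases h with h | h | h | h | h | h | h | h | ⟨-, h⟩ | ⟨-, h⟩ | ⟨-, h⟩
  · obtain ⟨F, _, _, _, n, hn, h4, ⟨e⟩⟩ := h
    refine Row.congr e.symm ?_
    rcases Nat.lt_or_ge 2 n with h3 | h3
    · exact RowL.row_three h3
    · obtain rfl : n = 2 := by omega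
      exact RowL.row_two (by rw [Nat.card_eq_fintype_card]; exact h4 rfl)
  · obtain ⟨F, _, _, _, m, hm, -, ⟨e⟩⟩ := h
    exact Row.congr e.symm (row_psp hm)
  · obtain ⟨F, _, _, _, n, q, hF, hn, h32, ⟨e⟩⟩ := h
    exact Row.congr e.symm (RowU.row_psu hF hn h32)
  · obtain ⟨F, _, _, _, m, hm, ho, ⟨e⟩⟩ := h
    exact Row.congr e.symm (row_odd ho hm)
  · obtain ⟨F, _, _, _, m, hm, ⟨e⟩⟩ := h
    refine Row.congr e.symm ?_
    rcases Nat.lt_or_ge 4 m with h3 | h3
    · exact row_plus h3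
    · obtain rfl : m = 4 := by omega
      exact row_plus_four fun s hs hs3 hd => H442.OkPlus8.okOdd_plus8 F hs hs3 hd
  · obtain ⟨F, _, _, _, m, a, b, hm, hab, ⟨e⟩⟩ := h
    exact Row.congr e.symm (row_minus hm hab)
  · obtain ⟨F, _, _, _, h⟩ := h
    rcases h with ⟨h3, ⟨e⟩⟩ | ⟨⟨e⟩⟩ | ⟨⟨e⟩⟩ | ⟨⟨e⟩⟩ | ⟨⟨e⟩⟩
    · exact Row.congr e.symm (row_G2 h3)
    · exact Row.congr e.symm row_F4
    · exact Row.congr e.symm (H493.NCRow.row_E6 F)
    · exact Row.congr e.symm (H442.RowE7.row_E7 F)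
    · exact Row.congr e.symm row_E8
  · obtain ⟨K, _, _, _, q, hq, h⟩ := h
    rcases h with ⟨hK, ⟨e⟩⟩ | ⟨hK, ⟨e⟩⟩
    · exact Row.congr e.symm (htw K q hq hK)
    · exact Row.congr e.symm (row_twD4 hq hK)
  · exact row_suzuki h
  · exact row_twF4 h
  · exact row_ree h

/-- the characteristic of a group of Lie type is a prime -/
theorem prime_of_lie {p : ℕ} {S : Type*} [Group S] (h : IsLieTypeChar p S) : p.Prime := by
  rcases h with h | h | h | h | h | h | h | h | ⟨rfl, -⟩ | ⟨rfl, -⟩ | ⟨rfl, -⟩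
  · obtain ⟨F, _, _, _, -⟩ := h
    exact CharP.char_is_prime F p
  · obtain ⟨F, _, _, _, -⟩ := h
    exact CharP.char_is_prime F p
  · obtain ⟨F, _, _, _, -⟩ := h
    exact CharP.char_is_prime F p
  · obtain ⟨F, _, _, _, -⟩ := h
    exact CharP.char_is_prime F p
  · obtain ⟨F, _, _, _, -⟩ := h
    exact CharP.char_is_prime F p
  · obtain ⟨F, _, _, _, -⟩ := h
    exact CharP.char_is_prime F p
  · obtain ⟨F, _, _, _, -⟩ := h
    exact CharP.char_is_prime F p
  · obtain ⟨K, _, _, _, -⟩ := h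
    exact CharP.char_is_prime K p
  · exact Nat.prime_two
  · exact Nat.prime_two
  · exact Nat.prime_three

theorem copInv_congr {S T : Type*} [Group S] [Group T] (e : S ≃* T) (h : CopInv S) : CopInv T := by
  intro s hs hs2 hd x hx
  obtain ⟨g, hg, hxg⟩ := h s hs hs2 (by rwa [Nat.card_congr e.toEquiv]) (MulAut.congr e.symm x)
    (by rw [← map_pow, hx, map_one])
  refine ⟨e g, by rw [← hg]; exact MulEquiv.orderOf_eq e g, ?_⟩
  have h1 : e (MulAut.congr e.symm x g) = x (e g) := by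
    change e (e.symm (x (e.symm.symm g))) = _
    rw [MulEquiv.apply_symm_apply, MulEquiv.symm_symm]
  rw [← h1, hxg]

variable {G : Type*} [Group G] [Finite G]

/-- **The theorem**, given the row of `²E₆`. -/
theorem final (htw : ∀ (K : Type) [Field K] [Fintype K] (q : ℕ), IsPrimePow q → Fintype.card K = q ^ 2 →
    Row ↥(Lie.twistedE6 K q))
    (K H : Subgroup G) [K.Normal] [H.Normal] (hKH : K < H) (hK : Group.IsNilpotent ↥K)
    (p : ℕ) (hS : IsSimpleGroup (↥H ⧸ K.subgroupOf H)) (hS' : Cfsg.IsLieTypeChar p (↥H ⧸ K.subgroupOf H))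
    (hC : Subgroup.centralizer ((H.map (QuotientGroup.mk' K) : Subgroup (G ⧸ K)) : Set (G ⧸ K)) = ⊥)
    (hnc : ¬ IsCyclic (G ⧸ H)) :
    ∃ r : ℕ, r.Prime ∧ r ∣ Nat.card (G ⧸ H) ∧
      ∀ s : ℕ, s.Prime → s ∣ Nat.card G → s ≠ r → ∃ g : G, orderOf g = r * s := by
  have hp := prime_of_lie hS'
  have hna : ¬ IsMulCommutative (↥H ⧸ K.subgroupOf H) := by
    intro hab
    -- `H / K ≤ C(H / K) = 1`
    have h1 : H.map (QuotientGroup.mk' K) ≤ Subgroup.centralizer ((H.map (QuotientGroup.mk' K) : Subgroup (G ⧸ K)) : Set (G ⧸ K)) := by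
      rintro _ ⟨a, ha, rfl⟩
      rw [Subgroup.mem_centralizer_iff]
      rintro _ ⟨b, hb, rfl⟩
      have h2 := hab.is_comm.comm ((⟨b, hb⟩ : H) : ↥H ⧸ K.subgroupOf H) ((⟨a, ha⟩ : H) : ↥H ⧸ K.subgroupOf H)
      rw [← QuotientGroup.mk_mul, ← QuotientGroup.mk_mul, QuotientGroup.eq, Subgroup.mem_subgroupOf] at h2
      rw [← map_mul, ← map_mul]
      change ((b * a : G) : G ⧸ K) = ((a * b : G) : G ⧸ K)
      rw [QuotientGroup.eq]
      exact h2
    rw [hC, le_bot_iff, Subgroup.map_eq_bot_iff, QuotientGroup.ker_mk'] at h1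
    exact absurd h1 (not_le_of_gt hKH)
  refine reduction K H hKH.le hK hS hna hC (fun S ⟨e⟩ => ?_) (fun S ⟨e⟩ => ?_) hnc
  · exact copInv_congr e.symm (copInv_of_lie hp hS')
  · exact Row.congr e.symm (row_of_lie htw hS')

end Cfsg.Agent.H160.NC.All
end

-- part: H493/NCRow/ThreeTw
section
/-!
# Elements of order 3 commuting with elements of twisted tori fixing a root (for S4185)
-/

set_option autoImplicit false
set_option linter.unusedSectionVars false

namespace Cfsg.Agent.H493.NCRow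

open CoxeterSystem Cfsg Cfsg.Lie Cfsg.Lie.ChevalleyDatum
open Cfsg.Agent.ChevalleyStructure Cfsg.Agent.ChevalleyStructure.Elts Cfsg.Agent.ChevalleyStructure.CoxeterGeom
  Cfsg.Agent.ChevalleyStructure.CoxeterGeomTypes Cfsg.Agent.ChevalleyStructure.NPerm
open Cfsg.Agent.Tits.Roots Cfsg.Agent.Tits.Core Cfsg.Agent.Nodes Cfsg.Agent.Nodes.Reps Cfsg.Agent.Nodes.BNOf
  Cfsg.Agent.Nodes.RGDChev Cfsg.Agent.Nodes.Bruhat Cfsg.Agent.Nodes.SubComb Cfsg.Agent.Nodes.Coroot
open Cfsg.Agent.KFacts.RgdField Cfsg.Agent.KFacts.RgdChevCoord Cfsg.Agent.BpExc.TorCent Cfsg.Agent.BpExc.TorChev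
open Cfsg.Agent.GpExc.Field Cfsg.Agent.BpExc.Tow Cfsg.Agent.BpExc.TowChev Cfsg.Agent.BpExc.Fr
  Cfsg.Agent.BpExc.LangFr Cfsg.Agent.LangThm Cfsg.Agent.BpExc Cfsg.Agent.H129.TorusChar Cfsg.Agent.H129.TorusCent
  Cfsg.Agent.H129.TorusTw Cfsg.Agent.H129.TorusMain Cfsg.Agent.H493.PGTorus Cfsg.Agent.H493.PGTwist
  Cfsg.Agent.H378.TwAdj Cfsg.Agent.H378.RankOne

universe u

variable {D : ChevalleyDatum} {l : ℕ} {M : CoxeterMatrix (Fin l)} (hp : IsType D l M) {k : Type u} [Field k]
  [IsAlgClosed k] {W : Type*} [Group W] [Finite W] (cs : CoxeterSystem M W) {p e : ℕ} [Fact p.Prime] [CharP k p]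
  {σ : MulAut ↥(D.group k)} {g : (Fin l → ℤ) ≃+ (Fin l → ℤ)}
  {G0 : Type*} [Group G0] {e0 : G0 →* ↥(D.group k)}

/-- a non-trivial fixed element of the root group of a fixed root -/
theorem exists_x' (hk : LocFin k) (he : 0 < e) (hσ : IsFrob p e σ)
    (F : Fr cs hp.isCartan (TT D k) (XX D l k) σ g) {a : Fin l → ℤ} (ha : IsRoot cs hp.isCartan a) (hga : g a = a) :
    ∃ x ∈ XX D l k a, x ≠ 1 ∧ σ x = x := by
  obtain ⟨c, hc, h1⟩ := HX.fr_xc hp cs hσ F ha
  rw [hga] at h1
  have hq : 1 < p ^ e := Nat.one_lt_pow he.ne' (Fact.out : p.Prime).one_lt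
  obtain ⟨s, hs⟩ := IsAlgClosed.exists_pow_nat_eq c⁻¹ (n := p ^ e - 1) (by omega)
  have hs0 : s ≠ 0 := by
    rintro rfl
    rw [zero_pow (by omega)] at hs
    exact inv_ne_zero hc hs.symm
  have hs1 : c * s ^ p ^ e = s := by
    have e1 : s ^ p ^ e = s ^ (p ^ e - 1) * s := by
      rw [← pow_succ]; congr 1; omega
    rw [e1, hs, ← mul_assoc, mul_inv_cancel₀ hc, one_mul]
  have C := coordsL hp cs hk p
  exact ⟨xc hp a s, ((C.coord a ha).mem _).2 ⟨s, rfl⟩, (C.coord a ha).ne_one hs0, by rw [h1, hs1]⟩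

theorem comm_cX (p : ℕ) [Fact p.Prime] [CharP k p] (hk : LocFin k) {t : ↥(D.group k)} (ht : t ∈ TT D k) {a : Fin l → ℤ}
    (ha : IsRoot cs hp.isCartan a) (h : cX hp t a = 1) {y : ↥(D.group k)} (hy : y ∈ XX D l k a) : Commute t y := by
  have C := coordsL hp cs hk p
  obtain ⟨s, rfl⟩ := ((C.coord a ha).mem y).1 hy
  have h3 := (C.coord a ha).act t ht s
  rw [← cX_root hp cs ht ha, h, one_mul] at h3
  exact mul_inv_eq_iff_eq_mul.1 h3

/-- **Adjacency to 3.** -/
theorem pair_three_of_eig (hk : LocFin k) (he : 0 < e) (hσ : IsFrob p e σ)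
    (F : Fr cs hp.isCartan (TT D k) (XX D l k) σ g) {d' : ℕ} {B' : Fin l → Fin l → ℤ} (hB : InvC D l d' B')
    (hd' : d' ≠ 0) (he0 : Function.Injective e0) {d : ℕ} (hd : ∀ y, σ y = y → y ^ d ∈ e0.range)
    {w : W} {Th : Fin l → Fin l → ℤ} (hw : ∀ j, rep cs hp.isCartan w (g (sr j)) = Th j)
    {f : ℕ} {c : Fin (f + 1) → ℤ} {V : Fin (f + 1) → Fin l → ℤ} {U : Fin l → ℤ}
    (h : EigOK (fun i j => Th j i) c V U) (hc : c 0 = 1 ∨ c 0 = -1) {a : Fin l → ℤ} (ha : IsRoot cs hp.isCartan a)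
    (hwa : rep cs hp.isCartan w (g a) = a) (hVa : ∀ i, ∑ m, a m * V i m = 0)
    {r : ℕ} (hr : r.Prime) (hrd : ¬ r ∣ d) (hpd : ¬ p ∣ d)
    (h1 : (r : ℤ) ∣ pv c ((p ^ e : ℕ) : ℤ)) : Pr G0 r 3 := by
  obtain ⟨n, z, hz, hσ', F'⟩ := exists_z hp cs hk he hσ F w
  obtain ⟨t, ht, h3, h4, h5⟩ := exists_t hp cs hσ' F' hB hd' hr (ne_char hc Fact.out he h1) (hL_of_eig hp cs hw h h1)
    (x₀ := U) (by rw [lam_unit h]; exact not_dvd_one hr)
  have hga : (g.trans (repAut cs hp.isCartan w)) a = a := hwa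
  have hgna : (g.trans (repAut cs hp.isCartan w)) (-a) = -a := by rw [map_neg, hga]
  obtain ⟨x, hx, hx1, hxσ⟩ := exists_x' hp cs hk he hσ' F' ha hga
  obtain ⟨v, hv, hS, hth⟩ := exists_swap3 hp cs hk p ha hx hx1
  have hvσ : (MulAut.conj n * σ) v = v := by
    refine hS.fix (τ := (MulAut.conj n * σ).toMonoidHom) hx hv (MulAut.conj n * σ).surjective (fun y => ?_)
      (fun y hy => ?_) hxσ
    · have := F'.map a ha y
      rwa [hga] at this
    · have := (F'.map (-a) ha.neg y).2 hy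
      rwa [hgna] at this
  have hla : cX hp t a = 1 := h5 a (by rw [lam_zero hVa]; exact dvd_zero _)
  have hlna : cX hp t (-a) = 1 := h5 (-a) (by rw [map_neg, lam_zero hVa, neg_zero]; exact dvd_zero _)
  have ctx : Commute t x := comm_cX hp cs p hk ht ha hla hx
  have ctv : Commute t v := comm_cX hp cs p hk ht ha.neg hlna hv
  have ho : ∀ y : ↥(D.group k), orderOf (z * y * z⁻¹) = orderOf y := fun y =>
    orderOf_injective (MulAut.conj z).toMonoidHom (MulAut.conj z).injective y
  have hcp : ∀ (y : ↥(D.group k)) (j : ℕ), (z * y * z⁻¹) ^ j = z * y ^ j * z⁻¹ := fun y j => conj_pow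
  -- the root elements are in the finite group
  have hmem : ∀ y : ↥(D.group k), (MulAut.conj n * σ) y = y → y ^ p = 1 → z * y * z⁻¹ ∈ e0.range := by
    intro y hy hyp
    refine Cfsg.Agent.H378.RootTor.mem_of_pow_mem (m := p) (g := d) ?_ (hd _ (fix_conj hz hy))
      ((Nat.Prime.coprime_iff_not_dvd Fact.out).2 hpd)
    rw [hcp, hyp]; group
  obtain ⟨x', hx'⟩ := hmem x hxσ (Cfsg.Agent.H378.RootTor.X_pow hp cs p ha hx)
  obtain ⟨v', hv'⟩ := hmem v hvσ (Cfsg.Agent.H378.RootTor.X_pow hp cs p ha.neg hv)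
  obtain ⟨t', ht'⟩ := hd _ (fix_conj hz h3)
  have e3 : e0 (x' * v' * x' * x') = z * (x * v * x * x) * z⁻¹ := by
    rw [map_mul, map_mul, map_mul, hx', hv']; group
  refine ⟨t', x' * v' * x' * x', ?_, ?_, ?_⟩
  · rw [← orderOf_injective e0 he0 t', ht', Nat.Coprime.orderOf_pow, ho, h4]
    rw [ho, h4]
    exact (Nat.Prime.coprime_iff_not_dvd hr).2 hrd
  · rw [← orderOf_injective e0 he0, e3, ho, hth]
  · apply he0
    have hm1 : e0 (t' * (x' * v' * x' * x')) = e0 t' * e0 (x' * v' * x' * x') := map_mul _ _ _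
    have hm2 : e0 (x' * v' * x' * x' * t') = e0 (x' * v' * x' * x') * e0 t' := map_mul _ _ _
    rw [hm1, hm2, e3, ht']
    have h6 : Commute t (x * v * x * x) :=
      Commute.mul_right (Commute.mul_right (Commute.mul_right ctx ctv) ctx) ctx
    have h7 : Commute (z * t * z⁻¹) (z * (x * v * x * x) * z⁻¹) := by
      show z * t * z⁻¹ * (z * (x * v * x * x) * z⁻¹) = z * (x * v * x * x) * z⁻¹ * (z * t * z⁻¹)
      calc z * t * z⁻¹ * (z * (x * v * x * x) * z⁻¹) = z * (t * (x * v * x * x)) * z⁻¹ := by group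
        _ = z * (x * v * x * x * t) * z⁻¹ := by rw [h6.eq]
        _ = _ := by group
    exact (h7.pow_left d).eq

/-! ### `²E₆(q)` -/

section E

open Cfsg.Agent.H129 Cfsg.Agent.H129.WData Cfsg.Agent.H493.TwE6Alg Cfsg.Agent.H493.PGE6T

variable {K : Type u} [Field K] [Fintype K] {q : ℕ} (hq : IsPrimePow q) (hK : Fintype.card K = q ^ 2)
  {L : List (Fin 6 × Mat 6)} (hL : ChainOK H493.PGE6T.Am L) {Th : Mat 6}
  (hTh : ∀ j, hd L (H493.TwE6Alg.pi j) = Th j)
  {f : ℕ} {c : Fin (f + 1) → ℤ} {V : Fin (f + 1) → Fin 6 → ℤ} {U : Fin 6 → ℤ}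
  (h : EigOK (fun i j => Th j i) c V U) (hc : c 0 = 1 ∨ c 0 = -1)

include hq hK hL hTh h hc

theorem pairE_three {r₀ : ℕ} (hr₀ : r₀ < 72)
    (hfix : ∀ m, ∑ j, vec chevE6 6 r₀ j * Th j m = vec chevE6 6 r₀ m)
    (hV : ∀ i, ∑ m, vec chevE6 6 r₀ m * V i m = 0) {r : ℕ} (hr : r.Prime)
    (hr3 : ¬ r ∣ Nat.gcd 3 (q + 1)) (h1 : (r : ℤ) ∣ pv c q) : Pr ↥(twistedE6 K q) r 3 := by
  have := H493.PGE6.finW
  obtain ⟨p, e, hpF, hpk, he, hqe, hk⟩ := H493.PGE6T.setup hq hK
  have hqe' : (q : ℤ) = ((p ^ e : ℕ) : ℤ) := by rw [hqe]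
  rw [hqe'] at h1
  have hpq : p ∣ q := by rw [hqe]; exact dvd_pow_self p he.ne'
  have hroot := (isRoot_iff RGDTwE6.hp CoxeterMatrix.E₆.toCoxeterSystem (vec chevE6 6 r₀)).2 ⟨r₀, hr₀, rfl⟩
  have hlin := H493.PGE6T.lin CoxeterMatrix.E₆.toCoxeterSystem hL hTh
  have hs3 : ¬ p ∣ Nat.gcd 3 (q + 1) := by
    intro h3
    have h4 : p ∣ q + 1 := h3.trans (Nat.gcd_dvd_right _ _)
    exact hpF.out.one_lt.ne' (Nat.dvd_one.1 ((Nat.dvd_add_right hpq).1 h4))
  refine pair_three_of_eig RGDTwE6.hp CoxeterMatrix.E₆.toCoxeterSystem hk he isFrob_tau (fr_tau _)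
    TorusChar.invC_E6 (by norm_num) (embT_injective (algebraMap K (AlgebraicClosure K)) q) (d := Nat.gcd 3 (q + 1))
    (fun y hy => tau_pow _ hqe hq hK hy) hlin h hc hroot ?_ hV hr hr3 hs3 h1
  funext m
  rw [← hfix m]
  have h3 : vec chevE6 6 r₀ = ∑ j, vec chevE6 6 r₀ j • sr j := TorusChar.IsMC.eq_sum_sr _
  conv_lhs => rw [h3]
  rw [map_sum, map_sum, Finset.sum_apply]
  refine Finset.sum_congr rfl fun j _ => ?_
  rw [map_zsmul, map_zsmul, hlin, Pi.smul_apply, smul_eq_mul]

end E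

end Cfsg.Agent.H493.NCRow
end

-- part: H493/NCRow/RowTwE6
section
/-!
# The row `²E₆` for S4185
-/

set_option autoImplicit false
set_option linter.unusedSectionVars false

namespace Cfsg.Agent.H493.NCRow

open Subgroup Cfsg Cfsg.Lie Cfsg.Lie.ChevalleyDatum
open Cfsg.Agent.ChevalleyStructure.SL2Hom (up lo)
open Cfsg.Agent.H493.PGTorus Cfsg.Agent.H493.PGCyc Cfsg.Agent.H129.WData
open Cfsg.Agent.H378.TwAdj Cfsg.Agent.H378.TwRows Cfsg.Agent.H378.ExcAdj
open Cfsg.Agent.H493.PGE6T

universe u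

/-- cyclic Sylow subgroups from cyclic centralisers of the elements of prime order -/
theorem cyc_of_cent {G : Type*} [Group G] [Finite G] {s : ℕ}
    (h : ∀ x : G, orderOf x = s → IsCyclic ↥(Subgroup.centralizer {x})) : H160.NC.Cyc G s := by
  intro hs P
  by_cases hP : Nontrivial ↥(P : Subgroup G)
  · have hPp : IsPGroup s ↥(P : Subgroup G) := P.isPGroup'
    have hc := hPp.center_nontrivial
    have hd : s ∣ Nat.card ↥(Subgroup.center ↥(P : Subgroup G)) := by
      obtain ⟨n, hn⟩ := (IsPGroup.iff_card.1 (hPp.to_subgroup (Subgroup.center ↥(P : Subgroup G))))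
      rw [hn]
      apply dvd_pow_self
      rintro rfl
      rw [pow_zero] at hn
      have := Finite.one_lt_card (α := ↥(Subgroup.center ↥(P : Subgroup G)))
      omega
    obtain ⟨z, hz⟩ := exists_prime_orderOf_dvd_card' (G := ↥(Subgroup.center ↥(P : Subgroup G))) s hd
    have hz' : orderOf (((z : ↥(P : Subgroup G)) : G)) = s := by
      rw [Subgroup.orderOf_coe, Subgroup.orderOf_coe, hz]
    have hcy := h _ hz'
    have hle : (P : Subgroup G) ≤ Subgroup.centralizer {((z : ↥(P : Subgroup G)) : G)} := by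
      intro y hy
      rw [Subgroup.mem_centralizer_singleton_iff]
      have h1 := Subgroup.mem_center_iff.1 z.2 ⟨y, hy⟩
      exact congrArg Subtype.val h1
    exact isCyclic_of_injective (Subgroup.inclusion hle) (Subgroup.inclusion_injective hle)
  · rw [not_nontrivial_iff_subsingleton] at hP
    exact isCyclic_of_subsingleton

/-- the 2-subgroups are cyclic -/
theorem two_cyclic {O : Type*} [Group O] [Finite O] (N : Subgroup O) [N.Normal] (hN : ¬ 2 ∣ Nat.card N)
    (hC : IsCyclic (O ⧸ N)) {A : Subgroup O} (hA : IsPGroup 2 A) : IsCyclic A := by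
  have hinj : Function.Injective ((QuotientGroup.mk' N).comp A.subtype) := by
    rw [injective_iff_map_eq_one]
    intro x hx
    have h1 : (x : O) ∈ N := by
      have : (QuotientGroup.mk' N) (x : O) = 1 := hx
      rwa [QuotientGroup.mk'_apply, QuotientGroup.eq_one_iff] at this
    obtain ⟨k, hk⟩ := hA x
    have h2 : orderOf (x : O) ∣ Nat.card N := by
      rw [← Subgroup.orderOf_mk (x : O) h1]
      exact _root_.orderOf_dvd_natCard _
    have h3 : orderOf (x : O) ∣ 2 ^ k := by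
      apply orderOf_dvd_of_pow_eq_one
      exact congrArg Subtype.val hk
    obtain ⟨j, -, hj⟩ := (Nat.dvd_prime_pow Nat.prime_two).1 h3
    rcases Nat.eq_zero_or_pos j with rfl | hjp
    · rw [pow_zero, orderOf_eq_one_iff] at hj
      exact Subtype.ext hj
    · exact absurd (((dvd_pow_self 2 hjp.ne').trans (by rw [hj])).trans h2) hN
  exact isCyclic_of_injective _ hinj

section E

variable {K : Type u} [Field K] [Fintype K] {q : ℕ} (hq : IsPrimePow q) (hK : Fintype.card K = q ^ 2)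

include hq hK

/-- 3 is adjacent to the characteristic -/
theorem adj3_char {p : ℕ} (hp : p.Prime) (hpq : p ∣ q) (hp3 : 3 ≠ p) : H94.PG.Adj ↥(twistedE6 K q) 3 p := by
  obtain ⟨k, _, _, ι, hk, hι⟩ := H343.exists_subfield K hq two_ne_zero hK
  have h1 := ETable.Exc.neg_one_pow_q (K := K) hq 2 two_ne_zero (by rw [Nat.card_eq_fintype_card, hK])
  have key : ∀ i, H343.RootIn ETable.Exc.inList_E6 ι (twistedE6 K q) (![39, 44, 60, 71] i) :=
    fun i => ⟨ETable.Exc.orth_twE6.lt i,
      fun t => ETable.Exc.X_mem h1 (ETable.Exc.fix_twE6 i).1 (ETable.Exc.fix_twE6 i).2.1 (hι t),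
      fun t => ETable.Exc.X_mem h1 (ETable.Exc.fix_twE6 i).2.2.1 (ETable.Exc.fix_twE6 i).2.2.2 (hι t)⟩
  obtain ⟨a, ha⟩ := H343.exists_sl2_three k
  have hx : orderOf ((key 0).hom a) = 3 := H343.orderOf_hom (key 0).hom (fun _ => (key 0).ker) ha
  have hchar : CharP K p := by
    obtain ⟨p', n, hp', hn, hpn⟩ := id hq
    have hpp : p = p' := by
      rw [← hpn] at hpq
      exact (Nat.prime_dvd_prime_iff_eq hp hp'.nat_prime).1 (hp.dvd_of_dvd_pow hpq)
    subst hpp
    have := Fact.mk hp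
    exact charP_of_card_eq_prime_pow (f := n * 2) (by rw [hK, ← hpn, pow_mul])
  have hchk : CharP k p := by
    have := hchar
    exact (RingHom.charP_iff ι ι.injective p).2 hchar
  have := Fact.mk hp
  have hup : ∀ n : ℕ, (up (1 : k)) ^ n = up (n : k) := by
    intro n
    induction n with
    | zero =>
      rw [pow_zero, Nat.cast_zero]
      apply Subtype.ext
      ext i j
      (revert i j; simp only [up, _root_.Fin.forall_fin_succ, _root_.Matrix.SpecialLinearGroup.coe_one, _root_.Matrix.of_apply, _root_.Matrix.cons_val', _root_.Matrix.cons_val_fin_one, Fin.isValue, _root_.Matrix.cons_val_zero, _root_.Matrix.cons_val_succ, _root_.IsEmpty.forall_iff, _root_.and_true, _root_.Matrix.one_apply_eq, Nat.reduceAdd, _root_.Fin.succ_zero_eq_one, _root_.ne_eq, _root_.zero_ne_one, _root_.not_false_eq_true, _root_.Matrix.one_apply_ne, _root_.and_self, _root_.Fin.succ_ne_zero, _root_.true_and])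
    | succ n ih =>
      rw [pow_succ, ih]
      apply Subtype.ext
      show !![1, (n : k); 0, 1] * !![1, (1 : k); 0, 1] = !![1, ((n + 1 : ℕ) : k); 0, 1]
      rw [Matrix.mul_fin_two]
      ext i j
      (revert i j; simp [add_comm, _root_.Fin.forall_fin_succ])
  have hy : orderOf ((key 1).hom (up 1)) = p := by
    refine orderOf_eq_prime ?_ ?_
    · rw [← map_pow, hup, CharP.cast_eq_zero]
      have : (up (0 : k)) = 1 := by
        apply Subtype.ext
        ext i j
        (revert i j; simp only [up, _root_.Fin.forall_fin_succ, _root_.Matrix.of_apply, _root_.Matrix.cons_val', _root_.Matrix.cons_val_fin_one, _root_.Matrix.SpecialLinearGroup.coe_one, Fin.isValue, _root_.Matrix.cons_val_zero, _root_.Matrix.cons_val_succ, _root_.IsEmpty.forall_iff, _root_.and_true, _root_.Matrix.one_apply_eq, Nat.reduceAdd, _root_.Fin.succ_zero_eq_one, _root_.ne_eq, _root_.zero_ne_one, _root_.not_false_eq_true, _root_.Matrix.one_apply_ne, _root_.and_self, _root_.Fin.succ_ne_zero,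 _root_.true_and])
      rw [this, map_one]
    · intro h2
      rcases (key 1).ker h2 with h3 | h3
      · have h4 := congrArg (fun g : Matrix.SpecialLinearGroup (Fin 2) k => g.1 0 1) h3
        simp [up] at h4
      · have h4 := congrArg (fun g : Matrix.SpecialLinearGroup (Fin 2) k => g.1 0 1) h3
        simp [up] at h4
  exact ⟨Nat.prime_three, hp, hp3, _, _, hx, hy,
    (key 0).comm (key 1) (ETable.Exc.orth_twE6.so 0 1 (by decide)) a (up 1)⟩

/-- the primes `s ≠ 3` -/
theorem ok3_TwE6 {s : ℕ} (hs : s.Prime) (hs3 : s ≠ 3) (hd : s ∣ Nat.card ↥(twistedE6 K q)) :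
    H160.NC.OkOdd ↥(twistedE6 K q) 3 s := by
  by_cases hs2 : s = 2
  · rw [hs2]
    exact Or.inl (adj_three hq hK)
  have hg := natCard_ne_of hq hK hs hs3
  have hcyc : H129.CycT.CycAt ↥(twistedE6 K q) s → H160.NC.OkOdd ↥(twistedE6 K q) 3 s := fun h =>
    Or.inr (Or.inl (cyc_of_cent fun x hx => H129.CycT.CycAt.isCyclic hs h hx))
  have hadj : Pr ↥(twistedE6 K q) s 3 → H160.NC.OkOdd ↥(twistedE6 K q) 3 s := fun h =>
    Or.inl (h.symm.adj Nat.prime_three hs hs3.symm)
  have h1 : s ∣ q ^ 36 * (q ^ 2 - 1) * (q ^ 5 + 1) * (q ^ 6 - 1) * (q ^ 8 - 1) * (q ^ 9 + 1) * (q ^ 12 - 1) := by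
    rw [← Cfsg.Agent.S1066.result hq hK]
    exact hd.mul_left _
  have hN : ∀ {z : ℤ} {N : ℕ}, (s : ℤ) ∣ z → (N : ℤ) = z → s ∣ N := fun {z N} h e =>
    Int.natCast_dvd_natCast.1 (by rw [e]; exact h)
  rcases cover hq.two_le hs h1 with (h | h | h | h | h | h | h) | h | h | h
  · exact Or.inl (adj3_char hq hK hs h hs3.symm)
  · exact hadj (pairE_three hq hK chainA_ok hThA eigA_1 (by decide) (by decide) fixA vanA_1 hs hg h)
  · exact hadj (pairE_three hq hK chainA_ok hThA eigA_2 (by decide) (by decide) fixA vanA_2 hs hg h)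
  · exact hadj (pairE_three hq hK chainB_ok hThB eigB_3 (by decide) (by decide) fixB vanB_3 hs hg h)
  · exact hadj (pairE_three hq hK chainC_ok hThC eigC_4 (by decide) (by decide) fixC vanC_4 hs hg h)
  · exact hadj (pairE_three hq hK chainB_ok hThB eigB_6 (by decide) (by decide) fixB vanB_6 hs hg h)
  · exact hadj (pairE_three hq hK chainD_ok hThD eigD_10 (by decide) (by decide) fixD vanD_10 hs hg h)
  · rw [pv_c8] at h
    have e : ((q ^ 4 + 1 : ℕ) : ℤ) = 1 + (q : ℤ) ^ 4 := by push_cast; ring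
    exact hcyc (H129.CycT.at_tE6_8 hq hK e hs (hN h (by push_cast; ring)) hs2)
  · have hod := od_of_c12 hs h
    rw [pv_c12] at h
    have hle : q ^ 2 ≤ q ^ 4 := Nat.pow_le_pow_right hq.pos (by norm_num)
    have e : ((q ^ 4 - q ^ 2 + 1 : ℕ) : ℤ) = 1 - (q : ℤ) ^ 2 + (q : ℤ) ^ 4 := by
      rw [Nat.cast_add, Nat.cast_sub hle]; push_cast; ring
    refine hcyc (H129.CycT.at_tE6_12 hq hK e hs (hN h (by rw [e]; ring)) ?_)
    rintro rfl
    have h2 := H378.ExcNear.mod_of_od hs hod (by norm_num)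
    omega
  · rw [pv_c18] at h
    have hle : q ^ 3 ≤ q ^ 6 := Nat.pow_le_pow_right hq.pos (by norm_num)
    have e : ((q ^ 6 - q ^ 3 + 1 : ℕ) : ℤ) = 1 - (q : ℤ) ^ 3 + (q : ℤ) ^ 6 := by
      rw [Nat.cast_add, Nat.cast_sub hle]; push_cast; ring
    exact hcyc (H129.CycT.at_tE6_18 hq hK e hs (hN h (by rw [e]; ring)) hs3)

/-- **The row `²E₆`.** -/
theorem row_twE6 : H160.NC.Row ↥(twistedE6 K q) := by
  obtain ⟨N, hNn, hNc, hC⟩ := exists_N_TwE6 hq hK
  have hcard := Cfsg.Agent.S1066.result (K := K) hq hK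
  have h23 := arith (N := Nat.card ↥(twistedE6 K q)) (q := q)
    (m := (q ^ 5 + 1) * (q ^ 8 - 1) * (q ^ 9 + 1) * (q ^ 12 - 1))
    (Nat.gcd_dvd_left 3 _) (hcard.trans (by ring))
  have hN3 : Nat.card N ∣ 3 := by rw [hNc]; exact Nat.gcd_dvd_left _ _
  have hab : _root_.commutator (Out ↥(twistedE6 K q)) ≤ N := by
    rw [_root_.commutator_def, commutator_le]
    intro x _ y _
    have hcm : ∀ a b : Out ↥(twistedE6 K q) ⧸ N, a * b = b * a := by
      let _ := IsCyclic.commGroup (α := Out ↥(twistedE6 K q) ⧸ N)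
      exact fun a b => mul_comm a b
    have h := hcm ((QuotientGroup.mk' N) x) ((QuotientGroup.mk' N) y)
    rw [← QuotientGroup.eq_one_iff, commutatorElement_def]
    change (QuotientGroup.mk' N) (x * y * x⁻¹ * y⁻¹) = 1
    simp only [map_mul, map_mul, map_mul, map_inv, map_inv, h]
    group
  refine ⟨?_, out_of_three N (Nat.le_of_dvd (by norm_num) hN3) hab h23.1 h23.2
    (fun _ s hs hs3 hd => ok3_TwE6 hq hK hs hs3 hd)⟩
  rintro ⟨A, hA, hnc⟩
  exact absurd (two_cyclic N (fun h => by have := h.trans hN3; omega) hC hA) hnc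

end E

end Cfsg.Agent.H493.NCRow
end
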